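import Groth.Agent.Gaga.H475.Line
import Groth.Agent.Sga4h.GeoDim3
import Mathlib.Topology.NoetherianSpace
import Mathlib.Topology.Sober

/-!
# The boundary of an affine curve lying finitely over a coordinate line

`K : Chart X U n`, `T ⊆ U` the closed set of points over a coordinate line.  The points of the
closure of `T` in `X` which are not in `U` are finitely many closed points.
-/

set_option autoImplicit false

namespace Groth.Agent.Gaga.H475.Boundary

open Filter Topology CategoryTheory AlgebraicGeometry TopologicalSpace Opposite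
open Groth.Agent.An.H863.PtsBasic Groth.Agent.An.H863.PtsCont Groth.Agent.An.H867.Nhds
open Groth.Agent.Gaga.H475.Chart Groth.Agent.Gaga.H475.Line
open Groth.Agent.Sga4h.GeoDim

/-- A prime of `ℂ[X₁, …, Xₙ]` containing `X_j - z_j` for `j ≠ i` comes from the line. -/
lemma exists_line_prime {n : ℕ} (z : Fin n → ℂ) (i : Fin n)
    (p : PrimeSpectrum (MvPolynomial (Fin n) ℂ))
    (hp : ∀ j, j ≠ i → MvPolynomial.X j - MvPolynomial.C (z j) ∈ p.asIdeal) :
    ∃ (ρ : MvPolynomial (Fin n) ℂ →+* MvPolynomial (ULift.{0} (Fin 1)) ℂ),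
      Function.Surjective ρ ∧ (∀ c, ρ (MvPolynomial.C c) = MvPolynomial.C c) ∧
      ∃ q : PrimeSpectrum (MvPolynomial (ULift.{0} (Fin 1)) ℂ), PrimeSpectrum.comap ρ q = p := by
  classical
  let ρ : MvPolynomial (Fin n) ℂ →+* MvPolynomial (ULift.{0} (Fin 1)) ℂ :=
    MvPolynomial.eval₂Hom MvPolynomial.C
      (fun j => if j = i then MvPolynomial.X ⟨0⟩ else MvPolynomial.C (z j))
  let σ : MvPolynomial (ULift.{0} (Fin 1)) ℂ →+* MvPolynomial (Fin n) ℂ :=
    MvPolynomial.eval₂Hom MvPolynomial.C (fun _ => MvPolynomial.X i)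
  have hρσ : ∀ a, ρ (σ a) = a := by
    intro a
    have h1 : ρ.comp σ = RingHom.id _ := by
      refine MvPolynomial.ringHom_ext (fun c => ?_) (fun j => ?_)
      · simp [ρ, σ]
      · obtain ⟨j⟩ := j
        have : j = 0 := Subsingleton.elim _ _
        subst this
        simp [ρ, σ]
    exact congrArg (fun f => f a) h1
  have hmk : ∀ a, Ideal.Quotient.mk p.asIdeal (σ (ρ a)) = Ideal.Quotient.mk p.asIdeal a := by
    intro a
    have h1 : ((Ideal.Quotient.mk p.asIdeal).comp σ).comp ρ = Ideal.Quotient.mk p.asIdeal := by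
      refine MvPolynomial.ringHom_ext (fun c => ?_) (fun j => ?_)
      · simp [ρ, σ]
      · by_cases hj : j = i
        · subst hj
          simp [ρ, σ]
        · simp only [RingHom.comp_apply]
          rw [show ρ (MvPolynomial.X j) = MvPolynomial.C (z j) by simp [ρ, hj],
            show σ (MvPolynomial.C (z j)) = MvPolynomial.C (z j) by simp [σ]]
          rw [eq_comm, Ideal.Quotient.mk_eq_mk_iff_sub_mem]
          exact hp j hj
    exact congrArg (fun f => f a) h1
  have hsurj : Function.Surjective ρ := fun a => ⟨σ a, hρσ a⟩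
  refine ⟨ρ, hsurj, fun c => by simp [ρ], ?_⟩
  have hmem : p ∈ Set.range (PrimeSpectrum.comap ρ) := by
    rw [range_comap_of_surjective _ ρ hsurj, PrimeSpectrum.mem_zeroLocus]
    intro a ha
    rw [SetLike.mem_coe, RingHom.mem_ker] at ha
    have h1 := hmk a
    rw [ha, map_zero, map_zero] at h1
    exact Ideal.Quotient.eq_zero_iff_mem.1 h1.symm
  exact hmem

variable {X : Scheme.{0}} [X.Over An.SC] {U : X.Opens} {n : ℕ} (K : Chart X U n)

/-- The points of `Spec Γ(X, U)` over the line. -/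
def T' (z : Fin n → ℂ) (i : Fin n) : Set (PrimeSpectrum Γ(X, U)) :=
  {p | ∀ j, j ≠ i → K.g (MvPolynomial.X j - MvPolynomial.C (z j)) ∈ p.asIdeal}

/-- The points of `X` over the line. -/
def T (z : Fin n → ℂ) (i : Fin n) : Set X := K.aff.fromSpec '' T' K z i

lemma trdegAt_fromSpec [LocallyOfFiniteType (X ↘ An.SC)] (p : Spec Γ(X, U)) :
    trdegAt (X ↘ An.SC) (K.aff.fromSpec p) =
      trdegAt (Spec.map (CommRingCat.ofHom (strU U : ℂ →+* Γ(X, U)))) p := by
  have h1 : Spec.map ((X ↘ An.SC).appLE ⊤ U (by simp)) ≫ (isAffineOpen_top An.SC).fromSpec =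
      K.aff.fromSpec ≫ (X ↘ An.SC) :=
    IsAffineOpen.SpecMap_appLE_fromSpec (X ↘ An.SC) (isAffineOpen_top An.SC) K.aff (by simp)
  have h2 : Spec.map (CommRingCat.ofHom (strU U : ℂ →+* Γ(X, U))) =
      Spec.map ((X ↘ An.SC).appLE ⊤ U (by simp)) ≫
        Spec.map (Scheme.ΓSpecIso (CommRingCat.of ℂ)).inv := by
    rw [← Spec.map_comp]
    rfl
  have h3 := trdegAt_comp K.aff.fromSpec (X ↘ An.SC) p
  rw [trdegAt_eq_zero_of_isPreimmersion K.aff.fromSpec p, add_zero] at h3
  rw [← h3, ← h1, trdegAt_comp, h2, trdegAt_comp,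
    trdegAt_eq_zero_of_isPreimmersion (isAffineOpen_top An.SC).fromSpec,
    trdegAt_eq_zero_of_isPreimmersion (Spec.map (Scheme.ΓSpecIso (CommRingCat.of ℂ)).inv)]

/-- The points over the line have transcendence degree at most one. -/
lemma trdegAt_le_one [LocallyOfFiniteType (X ↘ An.SC)] (z : Fin n → ℂ) (i : Fin n) {x : X}
    (hx : x ∈ T K z i) : trdegAt (X ↘ An.SC) x ≤ 1 := by
  obtain ⟨p, hp, rfl⟩ := hx
  rw [trdegAt_fromSpec K]
  let f : Spec Γ(X, U) ⟶ Spec (CommRingCat.of (MvPolynomial (Fin n) ℂ)) :=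
    Spec.map (CommRingCat.ofHom K.g)
  let π : Spec (CommRingCat.of (MvPolynomial (Fin n) ℂ)) ⟶ Spec (CommRingCat.of ℂ) :=
    Spec.map (CommRingCat.ofHom MvPolynomial.C)
  have hfπ : Spec.map (CommRingCat.ofHom (strU U : ℂ →+* Γ(X, U))) = f ≫ π := by
    rw [← Spec.map_comp, ← CommRingCat.ofHom_comp]
    congr 2
    ext c
    exact (K.const c).symm
  have hf : IsFinite f := by
    rw [IsFinite.SpecMap_iff]
    exact K.fin
  rw [hfπ, trdegAt_comp, trdegAt_eq_zero_of_locallyQuasiFinite f, add_zero]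
  obtain ⟨ρ, hρ, hρC, q, hq⟩ := exists_line_prime z i (f p) (fun j hj => by
    change K.g _ ∈ p.asIdeal
    exact hp j hj)
  let ι : Spec (CommRingCat.of (MvPolynomial (ULift.{0} (Fin 1)) ℂ)) ⟶
    Spec (CommRingCat.of (MvPolynomial (Fin n) ℂ)) := Spec.map (CommRingCat.ofHom ρ)
  have hι : IsClosedImmersion ι := IsClosedImmersion.spec_of_surjective _ hρ
  have hιq : ι q = f p := hq
  have h1 := trdegAt_comp ι π q
  have h0 : trdegAt ι q = 0 := trdegAt_eq_zero_of_isPreimmersion ι q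
  rw [h0, add_zero, hιq] at h1
  rw [← h1]
  have h2 : ι ≫ π = Spec.map (CommRingCat.ofHom
      (MvPolynomial.C (σ := ULift.{0} (Fin 1)) (R := ℂ))) := by
    rw [← Spec.map_comp, ← CommRingCat.ofHom_comp]
    congr 2
    exact RingHom.ext hρC
  rw [h2]
  have := trdegAt_Spec_mvPolynomial_le 1 (CommRingCat.of ℂ) q
  simpa using this

/-- A point of the closure of `T` is a specialization of a point of `T`. -/
lemma exists_specializes [LocallyOfFiniteType (X ↘ An.SC)] (z : Fin n → ℂ) (i : Fin n) {x : X}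
    (hx : x ∈ closure (T K z i)) : ∃ y ∈ T K z i, y ⤳ x := by
  have hft : (strU U : ℂ →+* Γ(X, U)).FiniteType := finiteType_strU U K.aff
  have hnoeth : IsNoetherianRing Γ(X, U) := by
    let _ : Algebra ℂ Γ(X, U) := (strU U).toAlgebra
    have : Algebra.FiniteType ℂ Γ(X, U) := hft
    exact Algebra.FiniteType.isNoetherianRing ℂ _
  let S : Set Γ(X, U) := {a | ∃ j, j ≠ i ∧ K.g (MvPolynomial.X j - MvPolynomial.C (z j)) = a}
  let I : Ideal Γ(X, U) := Ideal.span S
  have hT' : T' K z i = PrimeSpectrum.zeroLocus (I : Set Γ(X, U)) := by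
    rw [PrimeSpectrum.zeroLocus_span]
    ext p
    refine Iff.trans ?_ (PrimeSpectrum.mem_zeroLocus p S).symm
    constructor
    · rintro hp _ ⟨j, hj, rfl⟩
      exact hp j hj
    · intro hp j hj
      exact hp ⟨j, hj, rfl⟩
  have hfin : I.minimalPrimes.Finite := Ideal.finite_minimalPrimes_of_isNoetherianRing _ I
  have hex : ∀ p : Ideal Γ(X, U), ∃ y : X, p ∈ I.minimalPrimes →
      ∃ h : p.IsPrime, K.aff.fromSpec ⟨p, h⟩ = y := by
    intro p
    by_cases hp : p ∈ I.minimalPrimes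
    · exact ⟨K.aff.fromSpec ⟨p, hp.1.1⟩, fun _ => ⟨hp.1.1, rfl⟩⟩
    · exact ⟨x, fun h => absurd h hp⟩
  choose y hy using hex
  have hsub : T K z i ⊆ ⋃ p ∈ I.minimalPrimes, closure {y p} := by
    rintro _ ⟨p, hp, rfl⟩
    rw [hT'] at hp
    replace hp := (PrimeSpectrum.mem_zeroLocus p _).1 hp
    have := p.isPrime
    obtain ⟨p0, hp0, hle⟩ := Ideal.exists_minimalPrimes_le (J := p.asIdeal) hp
    refine Set.mem_biUnion hp0 ?_
    obtain ⟨h1, h2⟩ := hy p0 hp0
    rw [← h2, ← specializes_iff_mem_closure]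
    have h3 : (⟨p0, h1⟩ : PrimeSpectrum Γ(X, U)) ⤳ p :=
      (PrimeSpectrum.le_iff_specializes _ _).1 hle
    exact h3.map K.aff.fromSpec.continuous
  have hcl : IsClosed (⋃ p ∈ I.minimalPrimes, closure {y p}) :=
    hfin.isClosed_biUnion fun _ _ => isClosed_closure
  have h1 := hcl.closure_subset_iff.2 hsub hx
  obtain ⟨p, hp, hxp⟩ := Set.mem_iUnion₂.1 h1
  refine ⟨y p, ?_, specializes_iff_mem_closure.2 hxp⟩
  obtain ⟨h2, h3⟩ := hy p hp
  refine ⟨⟨p, h2⟩, ?_, h3⟩
  rw [hT']
  exact (PrimeSpectrum.mem_zeroLocus (⟨p, h2⟩ : PrimeSpectrum Γ(X, U)) _).2 hp.1.2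

/-- The boundary. -/
def E (z : Fin n → ℂ) (i : Fin n) : Set X := closure (T K z i) \ (U : Set X)

lemma T_subset (z : Fin n → ℂ) (i : Fin n) : T K z i ⊆ U := by
  rintro _ ⟨p, -, rfl⟩
  have : K.aff.fromSpec p ∈ Set.range K.aff.fromSpec := ⟨p, rfl⟩
  rwa [K.aff.range_fromSpec] at this

lemma isClosed_of_mem_E [LocallyOfFiniteType (X ↘ An.SC)] (z : Fin n → ℂ) (i : Fin n) {x : X}
    (hx : x ∈ E K z i) : IsClosed ({x} : Set X) := by
  obtain ⟨y, hy, hyx⟩ := exists_specializes K z i hx.1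
  have hne : y ≠ x := fun h => hx.2 (h ▸ T_subset K z i hy)
  have h1 : trdegAt (X ↘ An.SC) x < trdegAt (X ↘ An.SC) y :=
    trdegAt_lt_of_specializes _ hyx hne (Subsingleton.elim (α := PrimeSpectrum ℂ) _ _)
  have h2 : trdegAt (X ↘ An.SC) x = 0 := by
    have := h1.trans_le (trdegAt_le_one K z i hy)
    rwa [Cardinal.lt_one_iff] at this
  rw [← closure_subset_iff_isClosed]
  intro x' hx'
  rw [← specializes_iff_mem_closure] at hx'
  by_contra hne'
  have h3 : trdegAt (X ↘ An.SC) x' < trdegAt (X ↘ An.SC) x :=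
    trdegAt_lt_of_specializes _ hx' (fun h => hne' h.symm)
      (Subsingleton.elim (α := PrimeSpectrum ℂ) _ _)
  rw [h2] at h3
  exact not_lt_bot h3

lemma isClosed_E (z : Fin n → ℂ) (i : Fin n) : IsClosed (E K z i) :=
  isClosed_closure.sdiff U.isOpen

/-- A closed subset of a Noetherian sober space, all of whose points are closed, is finite. -/
lemma finite_of_isClosed {S : Type*} [TopologicalSpace S] [NoetherianSpace S] [QuasiSober S]
    {C : Set S} (hC : IsClosed C) (h : ∀ x ∈ C, IsClosed ({x} : Set S)) : C.Finite := by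
  obtain ⟨F, hF, hFi, hFe⟩ := NoetherianSpace.exists_finite_set_closeds_irreducible ⟨C, hC⟩
  have h1 : C = ⋃ t ∈ F, (t : Set S) := by
    have h2 := congrArg (fun t : Closeds S => (t : Set S)) hFe
    rw [show C = ((⟨C, hC⟩ : Closeds S) : Set S) from rfl, h2]
    have h3 : ∀ G : Set (Closeds S), G.Finite →
        ((sSup G : Closeds S) : Set S) = ⋃ t ∈ G, (t : Set S) := by
      intro G hG
      induction G, hG using Set.Finite.induction_on with
      | empty => simp
      | insert _ _ ih => rw [sSup_insert, Closeds.coe_sup, ih, Set.biUnion_insert]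
    exact h3 F hF
  rw [h1]
  refine hF.biUnion fun t ht => ?_
  obtain ⟨x, hx⟩ := QuasiSober.sober (hFi t ht) t.isClosed
  have hxC : x ∈ C := by
    rw [h1]
    exact Set.mem_biUnion ht hx.mem
  have h4 : (t : Set S) = {x} := by
    rw [← hx.def, (h x hxC).closure_eq]
  rw [h4]
  exact Set.finite_singleton x

theorem finite_E [LocallyOfFiniteType (X ↘ An.SC)] [QuasiCompact (X ↘ An.SC)] (z : Fin n → ℂ)
    (i : Fin n) : (E K z i).Finite := by
  have h1 : IsLocallyNoetherian X := LocallyOfFiniteType.isLocallyNoetherian (X ↘ An.SC)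
  have h2 : CompactSpace X := QuasiCompact.compactSpace_of_compactSpace (X ↘ An.SC)
  have h3 : IsNoetherian X := {}
  exact finite_of_isClosed (isClosed_E K z i) fun x hx => isClosed_of_mem_E K z i hx

end Groth.Agent.Gaga.H475.Boundary
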