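import Groth.Agent.Gaga.H475.Sheets
import Groth.Agent.An.H869.Points
import Groth.Agent.An.H867.Nhds
import Groth.Agent.Gaga.H990.ChartAt
import Mathlib.AlgebraicGeometry.FunctionField

/-!
# Étale coordinates on an affine open of an integral scheme of finite type over `ℂ`

`Chart X U n`: a Noether normalization `g : ℂ[z₁, …, zₙ] → Γ(X, U)`, a primitive element `t` with
minimal polynomial `P`, and the parametrisation `Θ` of the points over `{D ≠ 0}` by the zeros
`(z, t)` of `P`.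
-/

set_option autoImplicit false
set_option linter.dupNamespace false

namespace Groth.Agent.Gaga.H475.Chart

open Filter Topology CategoryTheory AlgebraicGeometry TopologicalSpace Opposite
open Groth.Agent.An.H863.PtsBasic Groth.Agent.An.H863.PtsCont Groth.Agent.An.H867.Nhds
open Groth.Agent.An.H869.LocalRoots Groth.Agent.An.H869

/-- Étale coordinates. -/
structure Chart (X : Scheme.{0}) [X.Over An.SC] (U : X.Opens) (n : ℕ) where
  aff : IsAffineOpen U
  g : MvPolynomial (Fin n) ℂ →+* Γ(X, U)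
  inj : Function.Injective g
  fin : g.Finite
  const : ∀ c, g (MvPolynomial.C c) = strU U c
  t : Γ(X, U)
  P : Polynomial (MvPolynomial (Fin n) ℂ)
  monic : P.Monic
  prime : Prime P
  root : P.eval₂ g t = 0
  dvd : ∀ p : Polynomial (MvPolynomial (Fin n) ℂ), p.eval₂ g t = 0 → P ∣ p
  u : Polynomial (MvPolynomial (Fin n) ℂ)
  v : Polynomial (MvPolynomial (Fin n) ℂ)
  D : MvPolynomial (Fin n) ℂ
  D_ne : D ≠ 0
  bez : u * P + v * Polynomial.derivative P = Polynomial.C D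
  h : Γ(X, U) → Polynomial (MvPolynomial (Fin n) ℂ)
  hh : ∀ a, g D * a = (h a).eval₂ g t
  Θ : (Fin n → ℂ) × ℂ → An.Pts X
  memU : ∀ q, F P q = 0 → MvPolynomial.eval q.1 D ≠ 0 → (Θ q).pt ∈ U
  ev : ∀ q, F P q = 0 → MvPolynomial.eval q.1 D ≠ 0 → ∀ a,
    evAt (Θ q) U a = F (h a) q / MvPolynomial.eval q.1 D

theorem exists_chart (X : Scheme.{0}) [X.Over An.SC] [IsIntegral X]
    [LocallyOfFiniteType (X ↘ An.SC)] (U : X.Opens) (hU : IsAffineOpen U) [Nonempty U] :
    ∃ n, Nonempty (Chart X U n) := by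
  classical
  let _ : Algebra ℂ Γ(X, U) := (strU U).toAlgebra
  have hft : Algebra.FiniteType ℂ Γ(X, U) := finiteType_strU U hU
  obtain ⟨n, g, hg, hfin⟩ := exists_finite_inj_algHom_of_fg ℂ Γ(X, U)
  let _ : Algebra (MvPolynomial (Fin n) ℂ) Γ(X, U) := g.toRingHom.toAlgebra
  have : IsScalarTower ℂ (MvPolynomial (Fin n) ℂ) Γ(X, U) := IsScalarTower.of_algebraMap_eq' (by
    ext c
    exact (g.commutes c).symm)
  have : FaithfulSMul (MvPolynomial (Fin n) ℂ) Γ(X, U) :=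
    (faithfulSMul_iff_algebraMap_injective _ _).2 hg
  have : Module.Finite (MvPolynomial (Fin n) ℂ) Γ(X, U) := hfin
  obtain ⟨t, u, v, D, hD, hbez, hden⟩ := Prim.exists_primitive (MvPolynomial (Fin n) ℂ) Γ(X, U)
  choose h hh using hden
  have hint : IsIntegral (MvPolynomial (Fin n) ℂ) t := Algebra.IsIntegral.isIntegral t
  set P := minpoly (MvPolynomial (Fin n) ℂ) t with hPdef
  have hP : ∀ p : Polynomial (MvPolynomial (Fin n) ℂ), Polynomial.aeval t p = 0 → P ∣ p :=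
    fun p hp => minpoly.isIntegrallyClosed_dvd hint hp
  have hPm : P.Monic := minpoly.monic hint
  have hprime : Prime P := minpoly.prime_of_isIntegrallyClosed hint
  -- the points
  have hpt : ∀ q : (Fin n → ℂ) × ℂ, ∃ x : An.Pts X, F P q = 0 → MvPolynomial.eval q.1 D ≠ 0 →
      x.pt ∈ U ∧ ∀ a, evAt x U a = F (h a) q / MvPolynomial.eval q.1 D := by
    intro q
    by_cases hq : F P q = 0 ∧ MvPolynomial.eval q.1 D ≠ 0
    · obtain ⟨x, hx, hxe⟩ := exists_pts_of_ringHom U hU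
        (Points.point t P hP D h hh q hq.1 hq.2 : Γ(X, U) →ₐ[ℂ] ℂ).toRingHom
        (fun c => (Points.point t P hP D h hh q hq.1 hq.2).commutes c)
      refine ⟨x, fun _ _ => ⟨hx, fun a => ?_⟩⟩
      rw [evAt_of_mem hx]
      exact congr($hxe a)
    · obtain ⟨x⟩ := (nonempty_iff X).1 (inferInstance : Nonempty X)
      exact ⟨x, fun h1 h2 => absurd ⟨h1, h2⟩ hq⟩
  choose Θ hΘ using hpt
  exact ⟨n, ⟨{
    aff := hU
    g := g.toRingHom
    inj := hg
    fin := hfin
    const := fun c => g.commutes c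
    t := t
    P := P
    monic := hPm
    prime := hprime
    root := minpoly.aeval _ _
    dvd := hP
    u := u
    v := v
    D := D
    D_ne := hD
    bez := hbez
    h := h
    hh := hh
    Θ := Θ
    memU := fun q h1 h2 => (hΘ q h1 h2).1
    ev := fun q h1 h2 => (hΘ q h1 h2).2 }⟩⟩

variable {X : Scheme.{0}} [X.Over An.SC] {U : X.Opens} {n : ℕ} (K : Chart X U n)

namespace Chart

/-- The étale locus. -/
def M : Set ((Fin n → ℂ) × ℂ) := {q | F K.P q = 0 ∧ MvPolynomial.eval q.1 K.D ≠ 0}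

lemma F_congr {q : (Fin n → ℂ) × ℂ} (hq : F K.P q = 0)
    {p p' : Polynomial (MvPolynomial (Fin n) ℂ)} (h : p.eval₂ K.g K.t = p'.eval₂ K.g K.t) :
    F p q = F p' q := by
  have h1 : K.P ∣ p - p' := K.dvd _ (by rw [Polynomial.eval₂_sub, h, sub_self])
  obtain ⟨r, hr⟩ := h1
  rw [← sub_eq_zero, ← Interp.F_sub, hr, Interp.F_mul, hq, zero_mul]

lemma ev_g {q : (Fin n → ℂ) × ℂ} (hq : q ∈ K.M) (p : MvPolynomial (Fin n) ℂ) :
    evAt (K.Θ q) U (K.g p) = MvPolynomial.eval q.1 p := by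
  rw [K.ev q hq.1 hq.2, div_eq_iff hq.2]
  have h1 : F (K.h (K.g p)) q = F (Polynomial.C (K.D * p)) q := by
    refine K.F_congr hq.1 ?_
    rw [← K.hh, Polynomial.eval₂_C, map_mul]
  rw [h1, Interp.F_C, map_mul, mul_comm]

lemma ev_t {q : (Fin n → ℂ) × ℂ} (hq : q ∈ K.M) : evAt (K.Θ q) U K.t = q.2 := by
  rw [K.ev q hq.1 hq.2, div_eq_iff hq.2]
  have h1 : F (K.h K.t) q = F (Polynomial.C K.D * Polynomial.X) q := by
    refine K.F_congr hq.1 ?_
    rw [← K.hh, Polynomial.eval₂_mul, Polynomial.eval₂_C, Polynomial.eval₂_X]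
  rw [h1, Interp.F_mul, Interp.F_C]
  simp [F, mul_comm]

/-- The point attached to a point of `X` over the étale locus. -/
lemma exists_eq (x : An.Pts X) (hx : x.pt ∈ U) (hD : evAt x U (K.g K.D) ≠ 0) :
    ∃ q ∈ K.M, K.Θ q = x := by
  let z : Fin n → ℂ := fun i => x.ev U hx (K.g (MvPolynomial.X i))
  have hz : ∀ p, MvPolynomial.eval z p = x.ev U hx (K.g p) := by
    intro p
    have h1 : (MvPolynomial.eval z : MvPolynomial (Fin n) ℂ →+* ℂ) = (evHom x U hx).comp K.g := by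
      refine MvPolynomial.ringHom_ext (fun c => ?_) (fun i => ?_)
      · rw [MvPolynomial.eval_C, RingHom.comp_apply, K.const, evHom_apply, ev_strU]
      · rw [MvPolynomial.eval_X, RingHom.comp_apply]
        rfl
    exact congrArg (fun f => f p) h1
  have hF : ∀ p : Polynomial (MvPolynomial (Fin n) ℂ), F p (z, x.ev U hx K.t) =
      x.ev U hx (p.eval₂ K.g K.t) := by
    intro p
    induction p using Polynomial.induction_on' with
    | add p q hp hq =>
      have : F (p + q) (z, x.ev U hx K.t) = F p (z, x.ev U hx K.t) + F q (z, x.ev U hx K.t) := by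
        simp [F]
      rw [this, hp, hq, Polynomial.eval₂_add, ev_add]
    | monomial k a =>
      rw [F, Polynomial.map_monomial, Polynomial.eval_monomial, Polynomial.eval₂_monomial, ev_mul,
        ev_pow, hz]
  have hM : (z, x.ev U hx K.t) ∈ K.M := by
    refine ⟨by rw [hF, K.root, ev_zero], ?_⟩
    rw [evAt_of_mem hx] at hD
    change MvPolynomial.eval z K.D ≠ 0
    rwa [hz]
  refine ⟨_, hM, ?_⟩
  have hmem := K.memU _ hM.1 hM.2
  apply pt_injective
  rw [← fromSpec_kerPt x U K.aff hx, ← fromSpec_kerPt (K.Θ _) U K.aff hmem]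
  congr 2
  ext a
  rw [evHom_apply, evHom_apply, ← evAt_of_mem hmem, K.ev _ hM.1 hM.2, hF, ← K.hh, ev_mul]
  change x.ev U hx (K.g K.D) * x.ev U hx a / MvPolynomial.eval z K.D = _
  rw [hz, mul_div_cancel_left₀]
  rwa [evAt_of_mem hx] at hD

/-- `F (h a) / D` is differentiable on `{D ≠ 0}`. -/
lemma differentiableAt_frac {q : (Fin n → ℂ) × ℂ} (hD : MvPolynomial.eval q.1 K.D ≠ 0)
    (p : Polynomial (MvPolynomial (Fin n) ℂ)) :
    DifferentiableAt ℂ (fun q : (Fin n → ℂ) × ℂ => F p q / MvPolynomial.eval q.1 K.D) q := by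
  have h1 : (fun q : (Fin n → ℂ) × ℂ => MvPolynomial.eval q.1 K.D) = F (Polynomial.C K.D) := by
    funext q
    rw [Interp.F_C]
  have h2 : DifferentiableAt ℂ (fun q : (Fin n → ℂ) × ℂ => MvPolynomial.eval q.1 K.D) q := by
    rw [h1]
    exact (analyticAt_F _ _).differentiableAt
  simp only [div_eq_mul_inv]
  exact (analyticAt_F _ _).differentiableAt.fun_mul (h2.fun_inv hD)

lemma eventually_D {q : (Fin n → ℂ) × ℂ} (hD : MvPolynomial.eval q.1 K.D ≠ 0) :
    ∀ᶠ q' in 𝓝 q, MvPolynomial.eval q'.1 K.D ≠ 0 :=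
  ((Growth.isOpen_ne_zero K.D).preimage continuous_fst).mem_nhds hD

/-- Near a point of the étale locus, a section of `O_X` is a differentiable function of the
coordinates. -/
lemma exists_section {q0 : (Fin n → ℂ) × ℂ} (hq0 : q0 ∈ K.M) (W : X.Opens) (s : Γ(X, W))
    (hW : (K.Θ q0).pt ∈ W) : ∃ G : (Fin n → ℂ) × ℂ → ℂ,
      (∀ᶠ q in 𝓝 q0, DifferentiableAt ℂ G q) ∧
      ∀ᶠ q in 𝓝 q0, q ∈ K.M → (K.Θ q).pt ∈ W ∧ evAt (K.Θ q) W s = G q := by
  have hU0 := K.memU q0 hq0.1 hq0.2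
  obtain ⟨b, hb, hmem⟩ := K.aff.exists_basicOpen_le (V := W) ⟨(K.Θ q0).pt, hW⟩ hU0
  change (K.Θ q0).pt ∈ X.basicOpen b at hmem
  have := K.aff.isLocalization_basicOpen b
  obtain ⟨m, a, ha⟩ := IsLocalization.Away.surj b (X.presheaf.map (homOfLE hb).op s)
  have hrel : ∀ z : An.Pts X, z.pt ∈ X.basicOpen b → evAt z W s * evAt z U b ^ m = evAt z U a := by
    intro z hz
    have hzU : z.pt ∈ U := X.basicOpen_le b hz
    have h1 : ∀ c : Γ(X, U), z.ev (X.basicOpen b) hz (algebraMap Γ(X, U) Γ(X, X.basicOpen b) c) =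
        z.ev U hzU c := fun c => ev_res z (X.basicOpen_le b) hz c
    have h2 := congr(z.ev (X.basicOpen b) hz $ha)
    rw [ev_mul, ← map_pow, h1, h1, ev_pow, ev_res z hb hz s] at h2
    rw [evAt_of_mem (hb hz), evAt_of_mem hzU, evAt_of_mem hzU, h2]
  let fb : (Fin n → ℂ) × ℂ → ℂ := fun q => F (K.h b) q / MvPolynomial.eval q.1 K.D
  let fa : (Fin n → ℂ) × ℂ → ℂ := fun q => F (K.h a) q / MvPolynomial.eval q.1 K.D
  have hfb0 : fb q0 ≠ 0 := by
    rw [show fb q0 = evAt (K.Θ q0) U b from (K.ev q0 hq0.1 hq0.2 b).symm, evAt_of_mem hU0,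
      ev_ne_zero_iff]
    exact hmem
  have hfbc : ContinuousAt fb q0 := (K.differentiableAt_frac hq0.2 _).continuousAt
  have hne := hfbc.eventually_ne hfb0
  refine ⟨fun q => fa q / fb q ^ m, ?_, ?_⟩
  · filter_upwards [hne, K.eventually_D hq0.2] with q h1 h2
    simp only [div_eq_mul_inv (fa _)]
    exact (K.differentiableAt_frac h2 _).fun_mul
      (((K.differentiableAt_frac h2 _).fun_pow m).fun_inv (pow_ne_zero _ h1))
  · filter_upwards [hne] with q h1 hq
    have hqU := K.memU q hq.1 hq.2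
    have h3 : evAt (K.Θ q) U b = fb q := K.ev q hq.1 hq.2 b
    have h4 : (K.Θ q).pt ∈ X.basicOpen b := by
      rw [← ev_ne_zero_iff _ U hqU, ← evAt_of_mem hqU, h3]
      exact h1
    refine ⟨hb h4, ?_⟩
    rw [eq_div_iff (pow_ne_zero _ h1), ← h3, hrel _ h4]
    exact K.ev q hq.1 hq.2 a

/-- Continuity of the parametrisation. -/
lemma eventually_mem {q0 : (Fin n → ℂ) × ℂ} (hq0 : q0 ∈ K.M) (N : Set (An.Pts X)) (hN : IsOpen N)
    (h : K.Θ q0 ∈ N) : ∀ᶠ q in 𝓝 q0, q ∈ K.M → K.Θ q ∈ N := by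
  have hU0 := K.memU q0 hq0.1 hq0.2
  obtain ⟨S, ε, hε, hS⟩ := exists_ball_subset (K.Θ q0) U K.aff hU0 (hN.mem_nhds h)
  have h1 : ∀ᶠ q in 𝓝 q0, ∀ f ∈ S, ‖F (K.h f) q / MvPolynomial.eval q.1 K.D -
      F (K.h f) q0 / MvPolynomial.eval q0.1 K.D‖ < ε := by
    rw [Filter.eventually_all_finset]
    intro f _
    have hc := (K.differentiableAt_frac hq0.2 (K.h f)).continuousAt
    filter_upwards [Metric.tendsto_nhds.1 hc.tendsto ε hε] with q hq
    rwa [dist_eq_norm] at hq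
  filter_upwards [h1] with q h2 hq
  refine hS ⟨K.memU q hq.1 hq.2, fun f hf => ?_⟩
  rw [← evAt_of_mem (K.memU q hq.1 hq.2), ← evAt_of_mem hU0, K.ev q hq.1 hq.2, K.ev q0 hq0.1 hq0.2]
  exact h2 f hf

open Groth.Agent.Gaga.H990.ChartAt in
/-- Holomorphic functions on `X(ℂ)` are differentiable functions of the coordinates. -/
lemma exists_chartAt {q0 : (Fin n → ℂ) × ℂ} (hq0 : q0 ∈ K.M) (ψ : An.Pts X → ℂ)
    (hψ : ChartAt ψ (K.Θ q0)) : ∃ G : (Fin n → ℂ) × ℂ → ℂ,
      (∀ᶠ q in 𝓝 q0, DifferentiableAt ℂ G q) ∧ ∀ᶠ q in 𝓝 q0, q ∈ K.M → ψ (K.Θ q) = G q := by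
  obtain ⟨W, k, s, G, hx, hG, he⟩ := hψ
  choose g hg1 hg2 using fun i => K.exists_section hq0 W (s i) hx
  have h0 : ∀ i, evAt (K.Θ q0) W (s i) = g i q0 := fun i => ((hg2 i).self_of_nhds hq0).2
  have h1 : ContinuousAt (fun q => fun i => g i q) q0 :=
    continuousAt_pi.2 fun i => (hg1 i).self_of_nhds.continuousAt
  have hG' : ∀ᶠ c in 𝓝 (fun i => g i q0), DifferentiableAt ℂ G c := by
    have : (fun i => g i q0) = fun i => evAt (K.Θ q0) W (s i) := funext fun i => (h0 i).symm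
    rw [this]
    exact hG
  refine ⟨fun q => G (fun i => g i q), ?_, ?_⟩
  · filter_upwards [h1.eventually hG', Filter.eventually_all.2 hg1] with q h2 h3
    exact DifferentiableAt.comp (f := fun q => fun i => g i q) q h2 (differentiableAt_pi.2 h3)
  · have h4 : ∀ᶠ q in 𝓝 q0, q ∈ K.M → ψ (K.Θ q) = G (fun i => evAt (K.Θ q) W (s i)) := by
      obtain ⟨N, hN1, hN2, hN3⟩ := eventually_nhds_iff.1 he
      filter_upwards [K.eventually_mem hq0 N hN2 hN3] with q h5 h6 using hN1 _ (h5 h6)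
    filter_upwards [h4, Filter.eventually_all.2 hg2] with q h5 h6 hq
    rw [h5 hq]
    congr 1
    funext i
    exact (h6 i hq).2

end Chart

end Groth.Agent.Gaga.H475.Chart
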