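import Groth.Agent.Gaga.H475.Line
import Groth.Agent.An.H867.Closure

/-!
# All sheets over a small open set of the base meet a given open of the target
-/

set_option autoImplicit false

namespace Groth.Agent.Gaga.H475.Conn

open Filter Topology CategoryTheory AlgebraicGeometry TopologicalSpace Opposite
open Groth.Agent.An.H863.PtsBasic Groth.Agent.An.H863.PtsCont Groth.Agent.An.H867.Nhds
open Groth.Agent.An.H869.LocalRoots Groth.Agent.An.H869
open Groth.Agent.Gaga.H475.Chart Groth.Agent.Gaga.H475.Line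
open Groth.Agent.Gaga.H475.Family (evAt_ne_zero_iff)

/-- Identity principle in several variables, along lines. -/
lemma eq_zero_of_ball {n : ℕ} {f : (Fin n → ℂ) → ℂ} {z0 : Fin n → ℂ} {ε : ℝ}
    (hf : ∀ z ∈ Metric.ball z0 ε, DifferentiableAt ℂ f z) {z1 : Fin n → ℂ}
    (h1 : z1 ∈ Metric.ball z0 ε) (h : ∀ᶠ z in 𝓝 z1, f z = 0) :
    ∀ z ∈ Metric.ball z0 ε, f z = 0 := by
  intro z2 h2
  let l : ℂ → (Fin n → ℂ) := fun ζ => z1 + ζ • (z2 - z1)
  have hl : Differentiable ℂ l := by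
    intro ζ
    exact (differentiableAt_const _).add (differentiableAt_id.smul_const _)
  have hconv : Convex ℝ (l ⁻¹' Metric.ball z0 ε) := by
    intro a ha b hb s t hs ht hst
    have h3 : l (s • a + t • b) = s • l a + t • l b := by
      simp only [l]
      have hst' : (t : ℝ) = 1 - s := by linarith
      subst hst'
      ext j
      simp only [Pi.add_apply, Pi.smul_apply, smul_eq_mul, Complex.real_smul, Pi.sub_apply]
      push_cast
      ring
    change l (s • a + t • b) ∈ Metric.ball z0 ε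
    rw [h3]
    exact convex_ball z0 ε ha hb hs ht hst
  have hopen : IsOpen (l ⁻¹' Metric.ball z0 ε) := Metric.isOpen_ball.preimage hl.continuous
  have hana : AnalyticOnNhd ℂ (fun ζ => f (l ζ)) (l ⁻¹' Metric.ball z0 ε) := by
    refine DifferentiableOn.analyticOnNhd (fun ζ hζ => ?_) hopen
    exact (DifferentiableAt.comp (f := l) ζ (hf _ hζ) (hl ζ)).differentiableWithinAt
  have hl0 : l 0 = z1 := by simp [l]
  have hl1 : l 1 = z2 := by simp [l]
  have h0 : (0 : ℂ) ∈ l ⁻¹' Metric.ball z0 ε := by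
    rw [Set.mem_preimage, hl0]
    exact h1
  have hev : (fun ζ => f (l ζ)) =ᶠ[𝓝 0] 0 := by
    have h4 : Tendsto l (𝓝 0) (𝓝 z1) := by
      have := hl.continuous.tendsto 0
      rwa [hl0] at this
    exact h4.eventually h
  have h5 := hana.eqOn_zero_of_preconnected_of_eventuallyEq_zero hconv.isPreconnected h0 hev
  have h6 := h5 (show (1 : ℂ) ∈ l ⁻¹' Metric.ball z0 ε by rw [Set.mem_preimage, hl1]; exact h2)
  simpa [hl1] using h6

variable {X : Scheme.{0}} [X.Over An.SC] {U : X.Opens} {n : ℕ} (K : Chart X U n)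

/-- The fibres of the chart. -/
noncomputable def R (z : Fin n → ℂ) : Finset ℂ := (K.P.map (MvPolynomial.eval z)).roots.toFinset

lemma mem_R (z : Fin n → ℂ) (t : ℂ) : t ∈ R K z ↔ F K.P (z, t) = 0 := by
  rw [R, Multiset.mem_toFinset, Polynomial.mem_roots (K.monic.map _).ne_zero]
  rfl

lemma card_R (z : Fin n → ℂ) : (R K z).card ≤ K.P.natDegree := by
  refine (Multiset.toFinset_card_le _).trans ?_
  exact (Polynomial.card_roots' _).trans Polynomial.natDegree_map_le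

lemma exists_branches {z0 : Fin n → ℂ} (h0 : MvPolynomial.eval z0 K.D ≠ 0) :
    ∃ τ : ℂ → (Fin n → ℂ) → ℂ,
      (∀ t ∈ R K z0, τ t z0 = t ∧ ∀ᶠ z in 𝓝 z0, DifferentiableAt ℂ (τ t) z) ∧
      (∀ᶠ z in 𝓝 z0, Set.InjOn (fun t => τ t z) (R K z0 : Set ℂ) ∧
        R K z = (R K z0).image (fun t => τ t z)) ∧
      (∀ t ∈ R K z0, ∀ᶠ q in 𝓝 (z0, t), q ∈ K.M → q.2 = τ t q.1) := by
  classical
  have hsep : ∀ᶠ z' in 𝓝 z0, (K.P.map (MvPolynomial.eval z')).Separable := by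
    filter_upwards [(Growth.isOpen_ne_zero K.D).mem_nhds h0] with z' hz'
    exact Interp.separable_of_bezout K.bez z' hz'
  obtain ⟨τ, hτ, hev⟩ := exists_local_roots' K.P K.monic z0 hsep
  have hR : ∀ z s, s ∈ (K.P.map (MvPolynomial.eval z)).roots.toFinset ↔ s ∈ R K z := by
    intro z s
    rw [mem_R, Multiset.mem_toFinset, Polynomial.mem_roots (K.monic.map _).ne_zero]
    rfl
  have hev' : ∀ᶠ z in 𝓝 z0, Set.InjOn (fun t => τ t z) (R K z0 : Set ℂ) ∧
        R K z = (R K z0).image (fun t => τ t z) := by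
    filter_upwards [hev] with z hz
    constructor
    · intro s hs s' hs' hss
      exact hz.1 (by simpa [hR] using hs) (by simpa [hR] using hs') hss
    · ext s
      rw [← hR, hz.2]
      simp only [Finset.mem_image, hR]
  refine ⟨τ, fun t ht => hτ t ((hR _ _).2 ht), hev', fun t ht => ?_⟩
  have h1 : ∀ᶠ q : (Fin n → ℂ) × ℂ in 𝓝 (z0, t), ∀ t' ∈ R K z0, t' ≠ t → τ t' q.1 ≠ q.2 := by
    rw [Filter.eventually_all_finset]
    intro t' ht'
    by_cases hne : t' = t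
    · exact Filter.Eventually.of_forall fun q h => absurd hne h
    · have h2 := hτ t' ((hR _ _).2 ht')
      have h3 : ContinuousAt (τ t') z0 := h2.2.self_of_nhds.continuousAt
      have h4 : Tendsto (fun q : (Fin n → ℂ) × ℂ => τ t' q.1 - q.2) (𝓝 (z0, t)) (𝓝 (t' - t)) := by
        have h5 : Tendsto (fun q : (Fin n → ℂ) × ℂ => τ t' q.1) (𝓝 (z0, t)) (𝓝 t') := by
          have h6 : Tendsto (τ t') (𝓝 z0) (𝓝 t') := by
            have := h3.tendsto
            rwa [h2.1] at this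
          exact h6.comp continuousAt_fst
        exact h5.sub continuousAt_snd
      filter_upwards [h4.eventually_ne (sub_ne_zero.2 hne)] with q hq _ h6
      exact hq (sub_eq_zero.2 h6)
  have h2 : Tendsto (Prod.fst : (Fin n → ℂ) × ℂ → (Fin n → ℂ)) (𝓝 (z0, t)) (𝓝 z0) := continuousAt_fst
  filter_upwards [h1, h2.eventually hev'] with q h3 h4 hq
  have h5 : q.2 ∈ R K q.1 := (mem_R K _ _).2 hq.1
  rw [h4.2] at h5
  obtain ⟨t', ht', h6⟩ := Finset.mem_image.1 h5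
  by_cases hne : t' = t
  · subst hne
    exact h6.symm
  · exact absurd h6 (h3 t' ht' hne)

variable {Y : Scheme.{0}} [Y.Over An.SC]

/-- Points near which the map meets `V`. -/
def A (φ : C(An.Pts X, An.Pts Y)) (V : Y.Opens) (q : (Fin n → ℂ) × ℂ) : Prop :=
  ∃ᶠ q' in 𝓝 q, q' ∈ K.M ∧ (φ (K.Θ q')).pt ∈ V

lemma A_of_mem {φ : C(An.Pts X, An.Pts Y)} {V : Y.Opens} {q : (Fin n → ℂ) × ℂ} (hq : q ∈ K.M)
    (h : (φ (K.Θ q)).pt ∈ V) : A K φ V q := fun h' => h'.self_of_nhds ⟨hq, h⟩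

/-- `A` is locally constant. -/
lemma eventually_A (φ : C(An.Pts X, An.Pts Y)) (hφ : An.IsHolMap φ) (V : Y.Opens)
    {q0 : (Fin n → ℂ) × ℂ} (hq0 : q0 ∈ K.M) :
    ∀ᶠ q in 𝓝 q0, q ∈ K.M → (A K φ V q ↔ A K φ V q0) := by
  obtain ⟨τ', hτ1, hev, huniq⟩ := exists_branches K hq0.2
  have ht0 : q0.2 ∈ R K q0.1 := (mem_R K _ _).2 hq0.1
  set τ := τ' q0.2 with hτdef
  obtain ⟨hτ0, hτd⟩ := hτ1 q0.2 ht0
  replace huniq : ∀ᶠ q in 𝓝 q0, q ∈ K.M → q.2 = τ q.1 := huniq q0.2 ht0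
  obtain ⟨V', hV', hmem, -⟩ := exists_isAffineOpen_mem_and_subset (U := (⊤ : Y.Opens))
    (x := (φ (K.Θ q0)).pt) trivial
  have e1 : ∀ᶠ q in 𝓝 q0, q ∈ K.M → (φ (K.Θ q)).pt ∈ V' :=
    K.eventually_mem hq0 (φ ⁻¹' (An.Pts.pt ⁻¹' (V' : Set Y)))
      ((An.Pts.isOpen_preimage_pt V').preimage φ.continuous) hmem
  have hgraph : Tendsto (fun z => (z, τ z)) (𝓝 q0.1) (𝓝 q0) := by
    have h1 : Tendsto τ (𝓝 q0.1) (𝓝 q0.2) := by
      have := hτd.self_of_nhds.continuousAt.tendsto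
      rwa [hτ0] at this
    have h2 : Tendsto (fun z : Fin n → ℂ => z) (𝓝 q0.1) (𝓝 q0.1) := tendsto_id
    exact h2.prodMk_nhds h1
  have hMgraph : ∀ᶠ z in 𝓝 q0.1, (z, τ z) ∈ K.M := by
    filter_upwards [hev, (Growth.isOpen_ne_zero K.D).mem_nhds hq0.2] with z h1 h2
    refine ⟨?_, h2⟩
    rw [← mem_R, h1.2]
    exact Finset.mem_image_of_mem _ ht0
  have e2 : ∀ᶠ z in 𝓝 q0.1, DifferentiableAt ℂ τ z ∧ (z, τ z) ∈ K.M ∧
      (φ (K.Θ (z, τ z))).pt ∈ V' ∧ ∀ᶠ q in 𝓝 (z, τ z), q ∈ K.M → q.2 = τ q.1 := by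
    filter_upwards [hτd, hMgraph, hgraph.eventually e1, hgraph.eventually huniq.eventually_nhds]
      with z h1 h2 h3 h4 using ⟨h1, h2, h3 h2, h4⟩
  obtain ⟨ε, hε, hball⟩ := Metric.eventually_nhds_iff_ball.1 e2
  have hd : ∀ (b : Γ(Y, V')), ∀ z ∈ Metric.ball q0.1 ε,
      DifferentiableAt ℂ (fun z => evAt (φ (K.Θ (z, τ z))) V' b) z := by
    intro b z hz
    obtain ⟨h1, h2, h3, h4⟩ := hball z hz
    obtain ⟨G, hG1, hG2⟩ := K.exists_chartAt h2 _ (chartAt_comp φ hφ V' b h3)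
    have h5 : DifferentiableAt ℂ (fun z => (z, τ z)) z := differentiableAt_id.prodMk h1
    have h6 : DifferentiableAt ℂ (fun z => G (z, τ z)) z :=
      DifferentiableAt.comp (f := fun z => (z, τ z)) z hG1.self_of_nhds h5
    refine h6.congr_of_eventuallyEq ?_
    have h7 : Tendsto (fun z => (z, τ z)) (𝓝 z) (𝓝 (z, τ z)) := h5.continuousAt
    filter_upwards [h7.eventually hG2, Metric.isOpen_ball.mem_nhds hz] with z' h8 h9
    exact h8 (hball z' h9).2.1
  have havoid : ∀ z1 ∈ Metric.ball q0.1 ε, ¬ A K φ V (z1, τ z1) →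
      ∀ z ∈ Metric.ball q0.1 ε, (φ (K.Θ (z, τ z))).pt ∉ V := by
    intro z1 hz1 hA z hz hzV
    obtain ⟨h1, h2, h3, h4⟩ := hball z1 hz1
    have h5 : Tendsto (fun z => (z, τ z)) (𝓝 z1) (𝓝 (z1, τ z1)) :=
      (differentiableAt_id.prodMk h1).continuousAt
    have h6 : ∀ᶠ z' in 𝓝 z1, (φ (K.Θ (z', τ z'))).pt ∉ V := by
      have h7 := h5.eventually (Filter.not_frequently.1 hA)
      filter_upwards [h7, Metric.isOpen_ball.mem_nhds hz1] with z' h8 h9 h10
      exact h8 ⟨(hball z' h9).2.1, h10⟩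
    obtain ⟨b, hb, hyb⟩ := hV'.exists_basicOpen_le (V := V) ⟨_, hzV⟩ (hball z hz).2.2.1
    change (φ (K.Θ (z, τ z))).pt ∈ Y.basicOpen b at hyb
    have h7 := eq_zero_of_ball (hd b) hz1 (by
      filter_upwards [h6, Metric.isOpen_ball.mem_nhds hz1] with z' h8 h9
      by_contra h10
      exact h8 (hb ((evAt_ne_zero_iff (hball z' h9).2.2.1 b).1 h10))) z hz
    exact (evAt_ne_zero_iff (hball z hz).2.2.1 b).2 hyb h7
  have hA : ∀ z1 ∈ Metric.ball q0.1 ε, ∀ z2 ∈ Metric.ball q0.1 ε, A K φ V (z1, τ z1) →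
      A K φ V (z2, τ z2) := by
    intro z1 hz1 z2 hz2 h1
    by_contra h2
    refine h1 ?_
    have h3 := havoid z2 hz2 h2
    obtain ⟨h4, h5, h6, h7⟩ := hball z1 hz1
    have h8 : Tendsto (Prod.fst : (Fin n → ℂ) × ℂ → (Fin n → ℂ)) (𝓝 (z1, τ z1)) (𝓝 z1) :=
      continuousAt_fst
    filter_upwards [h7, h8.eventually (Metric.isOpen_ball.mem_nhds hz1)] with q h9 h10 h11
    have h12 : q = (q.1, τ q.1) := Prod.ext rfl (h9 h11.1)
    rw [h12] at h11
    exact h3 _ h10 h11.2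
  have h1 : Tendsto (Prod.fst : (Fin n → ℂ) × ℂ → (Fin n → ℂ)) (𝓝 q0) (𝓝 q0.1) := continuousAt_fst
  filter_upwards [huniq, h1.eventually (Metric.ball_mem_nhds _ hε)] with q h2 h3 h4
  have h5 : q = (q.1, τ q.1) := Prod.ext rfl (h2 h4)
  have h6 : q0 = (q0.1, τ q0.1) := Prod.ext rfl hτ0.symm
  rw [h5, h6]
  exact ⟨hA _ h3 _ (Metric.mem_ball_self hε), hA _ (Metric.mem_ball_self hε) _ h3⟩

/-- `A` holds everywhere if it holds somewhere. -/
lemma forall_A (φ : C(An.Pts X, An.Pts Y)) (hφ : An.IsHolMap φ) (V : Y.Opens)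
    {q1 : (Fin n → ℂ) × ℂ} (hq1 : q1 ∈ K.M) (h1 : A K φ V q1) :
    ∀ q ∈ K.M, A K φ V q := by
  classical
  have key := Interp.eq_zero_or_eq_one K.monic K.prime K.u K.v K.D K.D_ne K.bez
    (fun q => if A K φ V q then 1 else 0) (by
      intro q _ _
      split_ifs
      · exact Or.inr rfl
      · exact Or.inl rfl) (by
      intro q0 hD hq
      have h2 : ∀ᶠ q : (Fin n → ℂ) × ℂ in 𝓝 q0, MvPolynomial.eval q.1 K.D ≠ 0 := K.eventually_D hD
      filter_upwards [eventually_A K φ hφ V ⟨hq, hD⟩, h2] with q h3 h4 h5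
      have h6 := h3 ⟨h5, h4⟩
      simp only [h6])
  rcases key with h | h
  · have h2 := h q1 hq1.2 hq1.1
    simp only [if_pos h1] at h2
    exact absurd h2 one_ne_zero
  · intro q hq
    by_contra h2
    have h3 := h q hq.2 hq.1
    simp only [if_neg h2] at h3
    exact zero_ne_one h3

/-- The étale locus is dense, so `A` holds somewhere. -/
lemma exists_A [IsIntegral X] [LocallyOfFiniteType (X ↘ An.SC)] [QuasiCompact (X ↘ An.SC)] (φ : C(An.Pts X, An.Pts Y))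
    (V : Y.Opens) {x : An.Pts X} (hx : x.pt ∈ U) (hV : (φ x).pt ∈ V) :
    ∃ q ∈ K.M, (φ (K.Θ q)).pt ∈ V := by
  have : Nonempty U := ⟨⟨_, hx⟩⟩
  have hne : X.basicOpen (K.g K.D) ≠ ⊥ := by
    rw [Ne, basicOpen_eq_bot_iff]
    intro h
    exact K.D_ne (K.inj (by rw [h, map_zero]))
  have hd : Dense (X.basicOpen (K.g K.D) : Set X) := by
    refine (X.basicOpen (K.g K.D)).isOpen.dense ?_
    rw [Set.nonempty_iff_ne_empty]
    intro h
    exact hne (Opens.ext h)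
  have hn1 : IsLocallyNoetherian X := LocallyOfFiniteType.isLocallyNoetherian (X ↘ An.SC)
  have hn2 : CompactSpace X := QuasiCompact.compactSpace_of_compactSpace (X ↘ An.SC)
  have hn3 : IsNoetherian X := {}
  have hretro : IsRetrocompact (X.basicOpen (K.g K.D) : Set X) :=
    fun V _ _ => NoetherianSpace.isCompact _
  have hd2 := (Groth.Agent.An.H867.Closure.dense_iff (X := X)
    (T := (X.basicOpen (K.g K.D) : Set X))
    (hretro.isLocallyConstructible (X.basicOpen (K.g K.D)).isOpen)).1 hd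
  have hO : IsOpen ((φ ⁻¹' (An.Pts.pt ⁻¹' (V : Set Y))) : Set (An.Pts X)) :=
    (An.Pts.isOpen_preimage_pt V).preimage φ.continuous
  obtain ⟨x', h1, h2⟩ := hd2.inter_open_nonempty _ hO ⟨x, hV⟩
  have hxU : x'.pt ∈ U := X.basicOpen_le _ h2
  obtain ⟨q, hq, rfl⟩ := K.exists_eq x' hxU ((evAt_ne_zero_iff hxU _).2 h2)
  exact ⟨q, hq, h1⟩

/-- There is a point of the base over which all sheets are in `V`. -/
theorem exists_all (φ : C(An.Pts X, An.Pts Y)) (V : Y.Opens) (hA : ∀ q ∈ K.M, A K φ V q) :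
    ∃ z0 : Fin n → ℂ, MvPolynomial.eval z0 K.D ≠ 0 ∧ ∀ t ∈ R K z0, (φ (K.Θ (z0, t))).pt ∈ V := by
  classical
  let N : (Fin n → ℂ) → ℕ := fun z => ((R K z).filter fun t => (φ (K.Θ (z, t))).pt ∈ V).card
  have hN : ∀ z, N z ≤ K.P.natDegree := fun z =>
    (Finset.card_le_card (Finset.filter_subset _ _)).trans (card_R K z)
  obtain ⟨z00, hz00⟩ := (Growth.dense_ne_zero K.D K.D_ne).nonempty
  let S : Set ℕ := {k | ∃ z, MvPolynomial.eval z K.D ≠ 0 ∧ N z = k}
  have hSne : S.Nonempty := ⟨N z00, z00, hz00, rfl⟩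
  have hSb : BddAbove S := ⟨K.P.natDegree, by rintro k ⟨z, -, rfl⟩; exact hN z⟩
  obtain ⟨z0, hz0, hmax⟩ := Nat.sSup_mem hSne hSb
  refine ⟨z0, hz0, fun t ht => ?_⟩
  by_contra hcon
  obtain ⟨τ, hτ, hev, huniq⟩ := exists_branches K hz0
  -- the sheets in `V` stay in `V`
  have h1 : ∀ᶠ z in 𝓝 z0, ∀ s ∈ R K z0, (φ (K.Θ (z0, s))).pt ∈ V →
      (φ (K.Θ (z, τ s z))).pt ∈ V := by
    rw [Filter.eventually_all_finset]
    intro s hs
    by_cases hsV : (φ (K.Θ (z0, s))).pt ∈ V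
    · have hM : (z0, s) ∈ K.M := ⟨(mem_R K _ _).1 hs, hz0⟩
      have h2 := K.eventually_mem hM (φ ⁻¹' (An.Pts.pt ⁻¹' (V : Set Y)))
        ((An.Pts.isOpen_preimage_pt V).preimage φ.continuous) hsV
      have h3 : Tendsto (fun z => (z, τ s z)) (𝓝 z0) (𝓝 (z0, s)) := by
        have h4 : Tendsto (τ s) (𝓝 z0) (𝓝 s) := by
          have := (hτ s hs).2.self_of_nhds.continuousAt.tendsto
          rwa [(hτ s hs).1] at this
        exact (show Tendsto (fun z : Fin n → ℂ => z) (𝓝 z0) (𝓝 z0) from tendsto_id).prodMk_nhds h4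
      filter_upwards [h3.eventually h2, hev, (Growth.isOpen_ne_zero K.D).mem_nhds hz0]
        with z h5 h6 h7 _
      refine h5 ⟨?_, h7⟩
      rw [← mem_R, h6.2]
      exact Finset.mem_image_of_mem _ hs
    · exact Filter.Eventually.of_forall fun z h => absurd h hsV
  have hM : (z0, t) ∈ K.M := ⟨(mem_R K _ _).1 ht, hz0⟩
  have h2 : Tendsto (Prod.fst : (Fin n → ℂ) × ℂ → (Fin n → ℂ)) (𝓝 (z0, t)) (𝓝 z0) := continuousAt_fst
  obtain ⟨q, ⟨hqM, hqV⟩, hq1, hq2, hq3⟩ := ((hA _ hM).and_eventually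
    ((huniq t ht).and ((h2.eventually h1).and (h2.eventually hev)))).exists
  have hq4 := hq1 hqM
  have hlt : N z0 < N q.1 := by
    have h3 : ((((R K z0).filter fun s => (φ (K.Θ (z0, s))).pt ∈ V).image fun s => τ s q.1)) ⊂
        ((R K q.1).filter fun s => (φ (K.Θ (q.1, s))).pt ∈ V) := by
      rw [Finset.ssubset_iff_of_subset]
      · refine ⟨q.2, ?_, ?_⟩
        · rw [Finset.mem_filter]
          exact ⟨(mem_R K _ _).2 hqM.1, hqV⟩
        · intro h4
          obtain ⟨s, hs, hs'⟩ := Finset.mem_image.1 h4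
          rw [Finset.mem_filter] at hs
          have h5 : s = t := hq3.1 (Finset.mem_coe.2 hs.1) (Finset.mem_coe.2 ht) (by
            change τ s q.1 = τ t q.1
            rw [hs', hq4])
          subst h5
          exact hcon hs.2
      · intro s hs
        obtain ⟨s', hs', rfl⟩ := Finset.mem_image.1 hs
        rw [Finset.mem_filter] at hs' ⊢
        refine ⟨?_, hq2 s' hs'.1 hs'.2⟩
        rw [hq3.2]
        exact Finset.mem_image_of_mem _ hs'.1
    have h4 := Finset.card_lt_card h3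
    rw [Finset.card_image_of_injOn] at h4
    · exact h4
    · intro s hs s' hs' hss
      rw [Finset.mem_coe, Finset.mem_filter] at hs hs'
      exact hq3.1 (Finset.mem_coe.2 hs.1) (Finset.mem_coe.2 hs'.1) hss
  have h3 : N q.1 ≤ sSup S := le_csSup hSb ⟨q.1, hqM.2, rfl⟩
  omega

/-- The set of base points over which all sheets are in `V`. -/
def Good (φ : C(An.Pts X, An.Pts Y)) (V : Y.Opens) : Set (Fin n → ℂ) :=
  {z | MvPolynomial.eval z K.D ≠ 0 ∧ ∀ t ∈ R K z, (φ (K.Θ (z, t))).pt ∈ V}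

lemma isOpen_good (φ : C(An.Pts X, An.Pts Y)) (V : Y.Opens) : IsOpen (Good K φ V) := by
  rw [isOpen_iff_mem_nhds]
  intro z0 hz0
  obtain ⟨τ, hτ, hev, huniq⟩ := exists_branches K hz0.1
  have h1 : ∀ᶠ z in 𝓝 z0, ∀ s ∈ R K z0, (z, τ s z) ∈ K.M → (φ (K.Θ (z, τ s z))).pt ∈ V := by
    rw [Filter.eventually_all_finset]
    intro s hs
    have hM : (z0, s) ∈ K.M := ⟨(mem_R K _ _).1 hs, hz0.1⟩
    have h2 := K.eventually_mem hM (φ ⁻¹' (An.Pts.pt ⁻¹' (V : Set Y)))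
      ((An.Pts.isOpen_preimage_pt V).preimage φ.continuous) (hz0.2 s hs)
    have h3 : Tendsto (fun z => (z, τ s z)) (𝓝 z0) (𝓝 (z0, s)) := by
      have h4 : Tendsto (τ s) (𝓝 z0) (𝓝 s) := by
        have := (hτ s hs).2.self_of_nhds.continuousAt.tendsto
        rwa [(hτ s hs).1] at this
      exact (show Tendsto (fun z : Fin n → ℂ => z) (𝓝 z0) (𝓝 z0) from tendsto_id).prodMk_nhds h4
    exact h3.eventually h2
  filter_upwards [h1, hev, (Growth.isOpen_ne_zero K.D).mem_nhds hz0.1] with z h2 h3 h4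
  refine ⟨h4, fun t ht => ?_⟩
  have hM : (z, t) ∈ K.M := ⟨(mem_R K _ _).1 ht, h4⟩
  rw [h3.2] at ht
  obtain ⟨s, hs, rfl⟩ := Finset.mem_image.1 ht
  exact h2 s hs hM

/-- Continuity of the traces. -/
lemma continuousAt_trace (φ : C(An.Pts X, An.Pts Y)) (hφ : An.IsHolMap φ) (V : Y.Opens)
    (y : Γ(Y, V)) (G : Polynomial (MvPolynomial (Fin n) ℂ)) {z0 : Fin n → ℂ}
    (hz0 : z0 ∈ Good K φ V) :
    ContinuousAt (fun z => ∑ t ∈ R K z, evAt (φ (K.Θ (z, t))) V y * F G (z, t)) z0 := by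
  obtain ⟨τ, hτ, hev, huniq⟩ := exists_branches K hz0.1
  have h1 : ∀ s ∈ R K z0, ContinuousAt (fun z => evAt (φ (K.Θ (z, τ s z))) V y * F G (z, τ s z))
      z0 := by
    intro s hs
    have hM : (z0, s) ∈ K.M := ⟨(mem_R K _ _).1 hs, hz0.1⟩
    have h3 : Tendsto (fun z => (z, τ s z)) (𝓝 z0) (𝓝 (z0, s)) := by
      have h4 : Tendsto (τ s) (𝓝 z0) (𝓝 s) := by
        have := (hτ s hs).2.self_of_nhds.continuousAt.tendsto
        rwa [(hτ s hs).1] at this
      exact (show Tendsto (fun z : Fin n → ℂ => z) (𝓝 z0) (𝓝 z0) from tendsto_id).prodMk_nhds h4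
    have hτ0 : τ s z0 = s := (hτ s hs).1
    refine ContinuousAt.mul ?_ ?_
    · obtain ⟨H, hH1, hH2⟩ := K.exists_chartAt hM _ (chartAt_comp φ hφ V y (hz0.2 s hs))
      have h4 : ContinuousAt (fun z => H (z, τ s z)) z0 := by
        change Tendsto _ _ _
        simp only [hτ0]
        exact (hH1.self_of_nhds.continuousAt.tendsto).comp h3
      refine h4.congr ?_
      filter_upwards [h3.eventually hH2, hev, (Growth.isOpen_ne_zero K.D).mem_nhds hz0.1]
        with z h5 h6 h7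
      refine (h5 ⟨?_, h7⟩).symm
      rw [← mem_R, h6.2]
      exact Finset.mem_image_of_mem _ hs
    · change Tendsto _ _ _
      simp only [hτ0]
      exact ((analyticAt_F G (z0, s)).continuousAt.tendsto).comp h3
  have h2 : ContinuousAt (fun z => ∑ s ∈ R K z0, evAt (φ (K.Θ (z, τ s z))) V y *
      F G (z, τ s z)) z0 := by
    exact tendsto_finsetSum _ fun s hs => h1 s hs
  refine h2.congr ?_
  filter_upwards [hev] with z h3
  rw [h3.2, Finset.sum_image h3.1]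

end Groth.Agent.Gaga.H475.Conn
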