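import Groth.Agent.Gaga.H475.Sheets
import Groth.Agent.An.H863.PtsCont
import Mathlib.Analysis.Analytic.Uniqueness
import Mathlib.Analysis.Normed.Module.Convex

/-!
# Holomorphic families of complex points over a branched family

`r : ℂ → Finset ℂ`, `W0 ⊆ ℂ` open over which `r` is a finite covering, and `Ψ : ℂ × ℂ → Y(ℂ)`
holomorphic on `{(ζ, t) | ζ ∈ W0, t ∈ r ζ}`.  At every point of the family the Zariski closure of the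
germ of `Ψ` is irreducible; its generic point is locally constant.
-/

set_option autoImplicit false

namespace Groth.Agent.Gaga.H475.Family

open Filter Topology CategoryTheory AlgebraicGeometry TopologicalSpace Opposite
open Groth.Agent.Gaga.H475.Sheets Groth.Agent.An.H863.PtsBasic Groth.Agent.An.H863.PtsCont

variable {Y : Scheme.{0}} [Y.Over An.SC]

/-- A holomorphic family of complex points of `Y`, parametrised by the branched family `r` over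
`W0`. -/
structure HolFam (r : ℂ → Finset ℂ) (W0 : Set ℂ) (Ψ : ℂ × ℂ → An.Pts Y) : Prop where
  isOpen : IsOpen W0
  cov : ∀ ζ ∈ W0, IsCov r ζ
  mem : ∀ ζ ∈ W0, ∀ t ∈ r ζ, ∀ V : Y.Opens, (Ψ (ζ, t)).pt ∈ V →
    ∀ᶠ q in 𝓝 (ζ, t), q.2 ∈ r q.1 → (Ψ q).pt ∈ V
  hol : ∀ ζ ∈ W0, ∀ t ∈ r ζ, ∀ (V : Y.Opens) (f : Γ(Y, V)), (Ψ (ζ, t)).pt ∈ V →
    HolAt r (fun q => evAt (Ψ q) V f) (ζ, t)

/-- The generic point of the Zariski closure of the germ of `Ψ` at `q0`. -/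
def IsGen (r : ℂ → Finset ℂ) (Ψ : ℂ × ℂ → An.Pts Y) (q0 : ℂ × ℂ) (y : Y) : Prop :=
  ∀ O : Y.Opens, y ∈ O ↔ ¬ ∀ᶠ q in 𝓝 q0, q.2 ∈ r q.1 → (Ψ q).pt ∉ O

lemma IsGen.unique {r : ℂ → Finset ℂ} {Ψ : ℂ × ℂ → An.Pts Y} {q0 : ℂ × ℂ} {y y' : Y}
    (h : IsGen r Ψ q0 y) (h' : IsGen r Ψ q0 y') : y = y' := by
  have h1 : Inseparable y y' := by
    rw [inseparable_iff_forall_isOpen]
    intro s hs
    exact (h ⟨s, hs⟩).trans (h' ⟨s, hs⟩).symm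
  exact h1.eq

variable {r : ℂ → Finset ℂ} {W0 : Set ℂ} {Ψ : ℂ × ℂ → An.Pts Y} {ζ0 t0 : ℂ}

/-- A branch over a ball, in an open subset `V` of `Y`. -/
structure Branch (r : ℂ → Finset ℂ) (W0 : Set ℂ) (Ψ : ℂ × ℂ → An.Pts Y) (V : Y.Opens) (ζ0 t0 : ℂ)
    (τ : ℂ → ℂ) (ε : ℝ) : Prop where
  pos : 0 < ε
  val : τ ζ0 = t0
  sub : Metric.ball ζ0 ε ⊆ W0
  memr : ∀ ζ ∈ Metric.ball ζ0 ε, τ ζ ∈ r ζ
  diff : ∀ ζ ∈ Metric.ball ζ0 ε, DifferentiableAt ℂ τ ζ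
  memV : ∀ ζ ∈ Metric.ball ζ0 ε, (Ψ (ζ, τ ζ)).pt ∈ V
  hol : ∀ ζ ∈ Metric.ball ζ0 ε, ∀ f : Γ(Y, V),
    DifferentiableAt ℂ (fun ζ => evAt (Ψ (ζ, τ ζ)) V f) ζ
  uniq : ∀ ζ ∈ Metric.ball ζ0 ε, ∀ᶠ q in 𝓝 (ζ, τ ζ), q.2 ∈ r q.1 → q.2 = τ q.1

lemma HolFam.exists_branch (H : HolFam r W0 Ψ) (hζ : ζ0 ∈ W0) (ht : t0 ∈ r ζ0) (V : Y.Opens)
    (hV : (Ψ (ζ0, t0)).pt ∈ V) : ∃ (τ : ℂ → ℂ) (ε : ℝ), Branch r W0 Ψ V ζ0 t0 τ ε := by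
  obtain ⟨τ, hτ0, hτd, hτr, hτu⟩ := (H.cov ζ0 hζ).exists_branch ht
  have htend := tendsto_branch hτ0 hτd
  have h1 : ∀ᶠ ζ in 𝓝 ζ0, ∀ᶠ q in 𝓝 (ζ, τ ζ), q.2 ∈ r q.1 → q.2 = τ q.1 :=
    htend.eventually hτu.eventually_nhds
  have h2 : ∀ᶠ ζ in 𝓝 ζ0, (Ψ (ζ, τ ζ)).pt ∈ V := by
    filter_upwards [htend.eventually (H.mem ζ0 hζ t0 ht V hV), hτr] with ζ h3 h4
    exact h3 h4
  have h3 := H.isOpen.mem_nhds hζ
  have hall := (((((h1.and h2).and hτd).and hτr).and h3).eventually_nhds)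
  obtain ⟨ε, hε, hball⟩ := Metric.eventually_nhds_iff_ball.1 hall
  refine ⟨τ, ε, ⟨hε, hτ0, fun ζ h => (hball ζ h).self_of_nhds.2, fun ζ h =>
    (hball ζ h).self_of_nhds.1.2, fun ζ h => (hball ζ h).self_of_nhds.1.1.2, fun ζ h =>
    (hball ζ h).self_of_nhds.1.1.1.2, fun ζ h f => ?_, fun ζ h =>
    (hball ζ h).self_of_nhds.1.1.1.1⟩⟩
  have h4 := (hball ζ h).self_of_nhds
  exact (HolAt.comp_branch rfl ((hball ζ h).mono fun _ h => h.1.1.2)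
    ((hball ζ h).mono fun _ h => h.1.2) (H.hol ζ h4.2 (τ ζ) h4.1.2 V f h4.1.1.1.2)).self_of_nhds

section branch

variable {V : Y.Opens} {τ : ℂ → ℂ} {ε : ℝ}

lemma Branch.self_mem (B : Branch r W0 Ψ V ζ0 t0 τ ε) : ζ0 ∈ Metric.ball ζ0 ε :=
  Metric.mem_ball_self B.pos

lemma Branch.tendsto (B : Branch r W0 Ψ V ζ0 t0 τ ε) {ζ : ℂ} (hζ : ζ ∈ Metric.ball ζ0 ε) :
    Tendsto (fun ζ => (ζ, τ ζ)) (𝓝 ζ) (𝓝 (ζ, τ ζ)) :=
  ContinuousAt.tendsto (f := fun ζ => (ζ, τ ζ)) (continuousAt_id.prodMk (B.diff ζ hζ).continuousAt)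

/-- Statements near a point of the family are statements along the branch. -/
lemma Branch.eventually_iff (B : Branch r W0 Ψ V ζ0 t0 τ ε) {ζ : ℂ} (hζ : ζ ∈ Metric.ball ζ0 ε)
    (p : ℂ × ℂ → Prop) : (∀ᶠ q in 𝓝 (ζ, τ ζ), q.2 ∈ r q.1 → p q) ↔ ∀ᶠ ζ' in 𝓝 ζ, p (ζ', τ ζ') := by
  constructor
  · intro h
    filter_upwards [(B.tendsto hζ).eventually h, Metric.isOpen_ball.mem_nhds hζ] with ζ' h1 h2
    exact h1 (B.memr ζ' h2)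
  · intro h
    have h1 : Tendsto (Prod.fst : ℂ × ℂ → ℂ) (𝓝 (ζ, τ ζ)) (𝓝 ζ) := continuousAt_fst
    filter_upwards [B.uniq ζ hζ, h1.eventually h] with q h2 h3 h4
    have : q = (q.1, τ q.1) := Prod.ext rfl (h2 h4)
    rw [this]
    exact h3

lemma Branch.analyticOnNhd (B : Branch r W0 Ψ V ζ0 t0 τ ε) (f : Γ(Y, V)) :
    AnalyticOnNhd ℂ (fun ζ => evAt (Ψ (ζ, τ ζ)) V f) (Metric.ball ζ0 ε) := by
  intro ζ hζ
  rw [Complex.analyticAt_iff_eventually_differentiableAt]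
  filter_upwards [Metric.isOpen_ball.mem_nhds hζ] with ζ' h
  exact B.hol ζ' h f

lemma isPreconnected_ball (c : ℂ) (ε : ℝ) : IsPreconnected (Metric.ball c ε) :=
  (convex_ball c ε).isPreconnected

lemma Branch.eq_zero (B : Branch r W0 Ψ V ζ0 t0 τ ε) (f : Γ(Y, V)) {ζ1 : ℂ}
    (hζ1 : ζ1 ∈ Metric.ball ζ0 ε) (h : ∀ᶠ ζ in 𝓝 ζ1, evAt (Ψ (ζ, τ ζ)) V f = 0) :
    ∀ ζ ∈ Metric.ball ζ0 ε, evAt (Ψ (ζ, τ ζ)) V f = 0 := by
  intro ζ hζ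
  exact (B.analyticOnNhd f).eqOn_zero_of_preconnected_of_eventuallyEq_zero (isPreconnected_ball _ _)
    hζ1 h hζ

lemma evAt_ne_zero_iff {y : An.Pts Y} {V : Y.Opens} (hy : y.pt ∈ V) (w : Γ(Y, V)) :
    evAt y V w ≠ 0 ↔ y.pt ∈ Y.basicOpen w := by
  rw [evAt_of_mem hy, ev_ne_zero_iff]

/-- Avoiding a Zariski open set near one point of the branch means avoiding it everywhere. -/
lemma Branch.avoid (B : Branch r W0 Ψ V ζ0 t0 τ ε) (hV : IsAffineOpen V) (O : Y.Opens) {ζ1 : ℂ}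
    (hζ1 : ζ1 ∈ Metric.ball ζ0 ε) (h : ∀ᶠ ζ in 𝓝 ζ1, (Ψ (ζ, τ ζ)).pt ∉ O) :
    ∀ ζ ∈ Metric.ball ζ0 ε, (Ψ (ζ, τ ζ)).pt ∉ O := by
  intro ζ hζ hO
  obtain ⟨w, hw, hmem⟩ := hV.exists_basicOpen_le (V := O) ⟨(Ψ (ζ, τ ζ)).pt, hO⟩ (B.memV ζ hζ)
  change (Ψ (ζ, τ ζ)).pt ∈ Y.basicOpen w at hmem
  refine (evAt_ne_zero_iff (B.memV ζ hζ) w).2 hmem (B.eq_zero w hζ1 ?_ ζ hζ)
  filter_upwards [h, Metric.isOpen_ball.mem_nhds hζ1] with ζ' h1 h2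
  by_contra h3
  exact h1 (hw ((evAt_ne_zero_iff (B.memV ζ' h2) w).1 h3))

lemma Branch.avoid_iff (B : Branch r W0 Ψ V ζ0 t0 τ ε) (hV : IsAffineOpen V) (O : Y.Opens) {ζ1 : ℂ}
    (hζ1 : ζ1 ∈ Metric.ball ζ0 ε) : (∀ᶠ q in 𝓝 (ζ1, τ ζ1), q.2 ∈ r q.1 → (Ψ q).pt ∉ O) ↔
      ∀ ζ ∈ Metric.ball ζ0 ε, (Ψ (ζ, τ ζ)).pt ∉ O := by
  rw [B.eventually_iff hζ1 (fun q => (Ψ q).pt ∉ O)]
  constructor
  · exact B.avoid hV O hζ1
  · intro h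
    filter_upwards [Metric.isOpen_ball.mem_nhds hζ1] with ζ hζ using h ζ hζ

/-- Existence of the generic point, constant along a branch. -/
lemma Branch.exists_gen (B : Branch r W0 Ψ V ζ0 t0 τ ε) (hV : IsAffineOpen V) :
    ∃ y : Y, ∀ ζ ∈ Metric.ball ζ0 ε, IsGen r Ψ (ζ, τ ζ) y := by
  classical
  let I : Ideal Γ(Y, V) :=
    { carrier := {w | ∀ ζ ∈ Metric.ball ζ0 ε, evAt (Ψ (ζ, τ ζ)) V w = 0}
      zero_mem' := fun ζ _ => evAt_zero _ _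
      add_mem' := fun {a b} ha hb ζ hζ => by rw [evAt_add, ha ζ hζ, hb ζ hζ, add_zero]
      smul_mem' := fun c w hw ζ hζ => by rw [smul_eq_mul, evAt_mul, hw ζ hζ, mul_zero] }
  have hImem : ∀ w, w ∈ I ↔ ∀ ζ ∈ Metric.ball ζ0 ε, evAt (Ψ (ζ, τ ζ)) V w = 0 := fun w => Iff.rfl
  have hI : I.IsPrime := by
    refine ⟨?_, ?_⟩
    · rw [Ne, Ideal.eq_top_iff_one, hImem]
      intro h
      have h1 := h ζ0 B.self_mem
      rw [evAt_of_mem (B.memV ζ0 B.self_mem), ev_one] at h1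
      exact one_ne_zero h1
    · intro a b hab
      by_contra hcon
      rw [not_or, hImem, hImem] at hcon
      obtain ⟨ha, hb⟩ := hcon
      push Not at ha
      obtain ⟨ζ1, hζ1, ha1⟩ := ha
      apply hb
      refine B.eq_zero b hζ1 ?_
      have h1 : ∀ᶠ ζ in 𝓝 ζ1, evAt (Ψ (ζ, τ ζ)) V a ≠ 0 :=
        (B.hol ζ1 hζ1 a).continuousAt.eventually_ne ha1
      filter_upwards [h1, Metric.isOpen_ball.mem_nhds hζ1] with ζ h2 h3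
      have h4 := (hImem _).1 hab ζ h3
      rw [evAt_mul] at h4
      exact (mul_eq_zero.1 h4).resolve_left h2
  let pI : PrimeSpectrum Γ(Y, V) := ⟨I, hI⟩
  let y : Y := hV.fromSpec pI
  have hyw : ∀ w : Γ(Y, V), y ∈ Y.basicOpen w ↔ w ∉ I := by
    intro w
    have h1 : pI ∈ hV.fromSpec ⁻¹ᵁ Y.basicOpen w ↔ pI ∈ PrimeSpectrum.basicOpen w := by
      rw [hV.fromSpec_preimage_basicOpen]
      exact Iff.rfl
    exact h1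
  have hyV : y ∈ V := by
    have h1 : y ∈ Set.range hV.fromSpec := ⟨pI, rfl⟩
    rw [hV.range_fromSpec] at h1
    exact h1
  refine ⟨y, fun ζ hζ O => ?_⟩
  rw [B.avoid_iff hV O hζ]
  push Not
  constructor
  · intro hyO
    obtain ⟨w, hw, hmem⟩ := hV.exists_basicOpen_le (V := O) ⟨y, hyO⟩ hyV
    have h1 := (hyw w).1 hmem
    rw [hImem] at h1
    push Not at h1
    obtain ⟨ζ', hζ', h2⟩ := h1
    exact ⟨ζ', hζ', hw ((evAt_ne_zero_iff (B.memV ζ' hζ') w).1 h2)⟩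
  · rintro ⟨ζ', hζ', hO⟩
    obtain ⟨w, hw, hmem⟩ := hV.exists_basicOpen_le (V := O) ⟨(Ψ (ζ', τ ζ')).pt, hO⟩ (B.memV ζ' hζ')
    refine hw ((hyw w).2 fun h => ?_)
    exact (evAt_ne_zero_iff (B.memV ζ' hζ') w).2 hmem ((hImem w).1 h ζ' hζ')

end branch

lemma HolFam.exists_gen (H : HolFam r W0 Ψ) (hζ : ζ0 ∈ W0) (ht : t0 ∈ r ζ0) :
    ∃ y : Y, IsGen r Ψ (ζ0, t0) y := by
  obtain ⟨V, hV, hmem, -⟩ := exists_isAffineOpen_mem_and_subset (U := (⊤ : Y.Opens))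
    (x := (Ψ (ζ0, t0)).pt) trivial
  obtain ⟨τ, ε, B⟩ := H.exists_branch hζ ht V hmem
  obtain ⟨y, hy⟩ := B.exists_gen hV
  refine ⟨y, ?_⟩
  have := hy ζ0 B.self_mem
  rwa [B.val] at this

/-- The generic point is locally constant on the family. -/
lemma HolFam.isGen_eventually (H : HolFam r W0 Ψ) (hζ : ζ0 ∈ W0) (ht : t0 ∈ r ζ0) {y : Y}
    (hy : IsGen r Ψ (ζ0, t0) y) : ∀ᶠ q in 𝓝 (ζ0, t0), q.2 ∈ r q.1 → IsGen r Ψ q y := by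
  obtain ⟨V, hV, hmem, -⟩ := exists_isAffineOpen_mem_and_subset (U := (⊤ : Y.Opens))
    (x := (Ψ (ζ0, t0)).pt) trivial
  obtain ⟨τ, ε, B⟩ := H.exists_branch hζ ht V hmem
  obtain ⟨y', hy'⟩ := B.exists_gen hV
  have h1 := hy' ζ0 B.self_mem
  rw [B.val] at h1
  obtain rfl := hy.unique h1
  have h2 := (B.eventually_iff B.self_mem (fun q => IsGen r Ψ q y)).2 (by
    filter_upwards [Metric.isOpen_ball.mem_nhds B.self_mem] with ζ hζ using hy' ζ hζ)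
  rwa [B.val] at h2

/-- Over a connected base, the same generic points occur over every point. -/
theorem HolFam.exists_isGen_over (H : HolFam r W0 Ψ) (hconn : IsPreconnected W0) {ζ1 ζ2 : ℂ}
    (h1 : ζ1 ∈ W0) (h2 : ζ2 ∈ W0) {t2 : ℂ} (ht2 : t2 ∈ r ζ2) {y : Y} (hy : IsGen r Ψ (ζ2, t2) y) :
    ∃ t1 ∈ r ζ1, IsGen r Ψ (ζ1, t1) y := by
  classical
  set A : Set ℂ := {ζ | ζ ∈ W0 ∧ ∃ t ∈ r ζ, IsGen r Ψ (ζ, t) y} with hA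
  set B : Set ℂ := {ζ | ζ ∈ W0 ∧ ∀ t ∈ r ζ, ¬ IsGen r Ψ (ζ, t) y} with hB
  have hAo : IsOpen A := by
    rw [isOpen_iff_mem_nhds]
    rintro ζ ⟨hζ, t, ht, hty⟩
    obtain ⟨τ, hτ0, hτd, hτr, hτu⟩ := (H.cov ζ hζ).exists_branch ht
    filter_upwards [(tendsto_branch hτ0 hτd).eventually (H.isGen_eventually hζ ht hty), hτr,
      H.isOpen.mem_nhds hζ] with ζ' h3 h4 h5
    exact ⟨h5, τ ζ', h4, h3 h4⟩
  have hBo : IsOpen B := by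
    rw [isOpen_iff_mem_nhds]
    rintro ζ ⟨hζ, hB⟩
    obtain ⟨τ, hτ, hev⟩ := H.cov ζ hζ
    have h3 : ∀ᶠ ζ' in 𝓝 ζ, ∀ t ∈ r ζ, τ t ζ' ∈ r ζ' → ¬ IsGen r Ψ (ζ', τ t ζ') y := by
      rw [Filter.eventually_all_finset]
      intro t ht
      obtain ⟨y', hy'⟩ := H.exists_gen hζ ht
      filter_upwards [(tendsto_branch (hτ t ht).1 (hτ t ht).2).eventually
        (H.isGen_eventually hζ ht hy')] with ζ' h4 h5 h6
      have h7 := (h4 h5).unique h6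
      subst h7
      exact hB t ht hy'
    filter_upwards [h3, hev, H.isOpen.mem_nhds hζ] with ζ' h4 h5 h6
    refine ⟨h6, fun t ht => ?_⟩
    have ht' := ht
    rw [h5.2] at ht
    obtain ⟨t', ht'', rfl⟩ := Finset.mem_image.1 ht
    exact h4 t' ht'' ht'
  have hdisj : Disjoint A B := by
    rw [Set.disjoint_left]
    rintro ζ ⟨_, t, ht, h3⟩ ⟨_, h4⟩
    exact h4 t ht h3
  have hcov : W0 ⊆ A ∪ B := by
    intro ζ hζ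
    by_cases h : ∃ t ∈ r ζ, IsGen r Ψ (ζ, t) y
    · exact Or.inl ⟨hζ, h⟩
    · refine Or.inr ⟨hζ, fun t ht h' => h ⟨t, ht, h'⟩⟩
  have := hconn.subset_left_of_subset_union hAo hBo hdisj hcov ⟨ζ2, h2, h2, t2, ht2, hy⟩
  exact (this h1).2

end Groth.Agent.Gaga.H475.Family
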