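import Groth.Agent.Gaga.H475.Chart
import Groth.Agent.Gaga.H475.Family

/-!
# The restriction of an étale chart to a coordinate line
-/

set_option autoImplicit false

namespace Groth.Agent.Gaga.H475.Line

open Filter Topology CategoryTheory AlgebraicGeometry TopologicalSpace Opposite
open Groth.Agent.An.H863.PtsBasic Groth.Agent.An.H863.PtsCont Groth.Agent.An.H867.Nhds
open Groth.Agent.An.H869.LocalRoots Groth.Agent.An.H869
open Groth.Agent.Gaga.H475.Sheets Groth.Agent.Gaga.H475.Family Groth.Agent.Gaga.H475.Chart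
open Groth.Agent.Gaga.H990.ChartAt

section roots

variable {n : ℕ}

/-- Local roots, differentiable in a neighbourhood. -/
theorem exists_local_roots' (P : Polynomial (MvPolynomial (Fin n) ℂ)) (hP : P.Monic)
    (z0 : Fin n → ℂ) (h0 : ∀ᶠ z in 𝓝 z0, (P.map (MvPolynomial.eval z)).Separable) :
    ∃ τ : ℂ → (Fin n → ℂ) → ℂ,
      (∀ t ∈ (P.map (MvPolynomial.eval z0)).roots.toFinset, τ t z0 = t ∧
        ∀ᶠ z in 𝓝 z0, DifferentiableAt ℂ (τ t) z) ∧
      ∀ᶠ z in 𝓝 z0,
        Set.InjOn (fun t => τ t z) ((P.map (MvPolynomial.eval z0)).roots.toFinset : Set ℂ) ∧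
        (P.map (MvPolynomial.eval z)).roots.toFinset =
          (P.map (MvPolynomial.eval z0)).roots.toFinset.image (fun t => τ t z) := by
  classical
  obtain ⟨τ, hτ, hev⟩ := exists_local_roots P hP z0 h0
  set r0 := (P.map (MvPolynomial.eval z0)).roots.toFinset with hr0
  have hmem : ∀ z t, t ∈ (P.map (MvPolynomial.eval z)).roots.toFinset ↔ F P (z, t) = 0 := by
    intro z t
    rw [Multiset.mem_toFinset, Polynomial.mem_roots (hP.map _).ne_zero]
    rfl
  refine ⟨τ, fun t ht => ⟨(hτ t ht).2, ?_⟩, hev⟩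
  -- the separation of the roots
  obtain ⟨ε, hε, hsep⟩ : ∃ ε : ℝ, 0 < ε ∧ ∀ t ∈ r0, ∀ t' ∈ r0, t ≠ t' → ε ≤ ‖t - t'‖ := by
    by_cases hne : (r0.offDiag).Nonempty
    · obtain ⟨p, hp, hmin⟩ := r0.offDiag.exists_min_image (fun p => ‖p.1 - p.2‖) hne
      refine ⟨‖p.1 - p.2‖, ?_, fun t ht t' ht' hne => hmin (t, t') (Finset.mem_offDiag.2 ⟨ht, ht', hne⟩)⟩
      exact norm_pos_iff.2 (sub_ne_zero.2 (Finset.mem_offDiag.1 hp).2.2)
    · refine ⟨1, one_pos, fun t ht t' ht' h => ?_⟩
      exact absurd ⟨(t, t'), Finset.mem_offDiag.2 ⟨ht, ht', h⟩⟩ hne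
  have hdist : ∀ᶠ z in 𝓝 z0, ∀ t ∈ r0, ‖τ t z - t‖ < ε / 4 := by
    rw [Filter.eventually_all_finset]
    intro t ht
    have hc : ContinuousAt (fun z => τ t z) z0 := (hτ t ht).1.continuousAt
    have h1 := Metric.tendsto_nhds.1 hc.tendsto (ε / 4) (by positivity)
    filter_upwards [h1] with z hz
    rwa [dist_eq_norm, (hτ t ht).2] at hz
  let e : (Fin n → ℂ) × ℂ → ℂ := fun q => if ‖q.2 - t‖ < ε / 2 then 1 else 0
  have he : ∀ (z : Fin n → ℂ) (s t' : ℂ), t' ∈ r0 → ‖s - t'‖ < ε / 4 →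
      e (z, s) = if t' = t then 1 else 0 := by
    intro z s t' ht' hs
    by_cases htt : t' = t
    · subst htt
      simp only [e, if_true]
      rw [if_pos (by linarith)]
    · simp only [e]
      rw [if_neg htt, if_neg]
      have h1 := hsep t' ht' t ht htt
      have h2 : ‖t' - t‖ ≤ ‖s - t'‖ + ‖s - t‖ := by
        calc ‖t' - t‖ = ‖-(s - t') + (s - t)‖ := by ring_nf
          _ ≤ ‖-(s - t')‖ + ‖s - t‖ := norm_add_le _ _
          _ = ‖s - t'‖ + ‖s - t‖ := by rw [norm_neg]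
      intro h3
      linarith
  filter_upwards [((h0.and hev).and hdist).eventually_nhds] with z1 h1
  have h2 := h1.self_of_nhds
  have hd : DifferentiableAt ℂ (fun z => ∑ s ∈ (P.map (MvPolynomial.eval z)).roots.toFinset,
      e (z, s) * F Polynomial.X (z, s)) z1 := by
    refine differentiableAt_sum_roots P Polynomial.X hP z1 (h1.mono fun _ h => h.1.1) e ?_
    intro s hs
    have hs' := (hmem z1 s).2 hs
    rw [h2.1.2.2] at hs'
    obtain ⟨t', ht', rfl⟩ := Finset.mem_image.1 hs'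
    have h3 : ∀ᶠ q : (Fin n → ℂ) × ℂ in 𝓝 (z1, τ t' z1), ‖q.2 - t'‖ < ε / 4 := by
      have hc : ContinuousAt (fun q : (Fin n → ℂ) × ℂ => ‖q.2 - t'‖) (z1, τ t' z1) := by fun_prop
      exact hc.tendsto.eventually_lt_const (h2.2 t' ht')
    filter_upwards [h3] with q hq _
    rw [he z1 _ t' ht' (h2.2 t' ht'), show e q = e (q.1, q.2) from rfl, he q.1 q.2 t' ht' hq]
  refine hd.congr_of_eventuallyEq ?_
  filter_upwards [h1] with z h3
  rw [h3.1.2.2, Finset.sum_image h3.1.2.1]
  have h4 : ∀ t' ∈ r0, e (z, τ t' z) * F Polynomial.X (z, τ t' z) = if t' = t then τ t' z else 0 := by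
    intro t' ht'
    rw [he z _ t' ht' (h3.2 t' ht')]
    split_ifs <;> simp [F]
  rw [Finset.sum_congr rfl h4, Finset.sum_ite_eq' r0 t (fun t' => τ t' z), if_pos ht]

end roots

variable {X : Scheme.{0}} [X.Over An.SC] {U : X.Opens} {n : ℕ} (K : Chart X U n)

/-- The coordinate line through `z` in the direction `i`. -/
def L (z : Fin n → ℂ) (i : Fin n) (ζ : ℂ) : Fin n → ℂ := Function.update z i ζ

lemma differentiable_L (z : Fin n → ℂ) (i : Fin n) : Differentiable ℂ (L z i) := by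
  rw [differentiable_pi]
  intro j
  by_cases h : j = i
  · subst h
    simp only [L, Function.update_self]
    exact differentiable_id
  · simp only [L, Function.update_of_ne h]
    exact differentiable_const _

/-- The base of the family. -/
def W0 (z : Fin n → ℂ) (i : Fin n) : Set ℂ := {ζ | MvPolynomial.eval (L z i ζ) K.D ≠ 0}

/-- The fibres of the chart over the line. -/
noncomputable def r (z : Fin n → ℂ) (i : Fin n) (ζ : ℂ) : Finset ℂ :=
  (K.P.map (MvPolynomial.eval (L z i ζ))).roots.toFinset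

lemma mem_r (z : Fin n → ℂ) (i : Fin n) (ζ t : ℂ) : t ∈ r K z i ζ ↔ F K.P (L z i ζ, t) = 0 := by
  rw [r, Multiset.mem_toFinset, Polynomial.mem_roots (K.monic.map _).ne_zero]
  rfl

lemma card_r (z : Fin n → ℂ) (i : Fin n) (ζ : ℂ) : (r K z i ζ).card ≤ K.P.natDegree := by
  refine (Multiset.toFinset_card_le _).trans ?_
  exact (Polynomial.card_roots' _).trans Polynomial.natDegree_map_le

lemma mem_M {z : Fin n → ℂ} {i : Fin n} {ζ t : ℂ} (hζ : ζ ∈ W0 K z i) (ht : t ∈ r K z i ζ) :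
    (L z i ζ, t) ∈ K.M := ⟨(mem_r K z i ζ t).1 ht, hζ⟩

lemma isOpen_W0 (z : Fin n → ℂ) (i : Fin n) : IsOpen (W0 K z i) :=
  (Growth.isOpen_ne_zero K.D).preimage (differentiable_L z i).continuous

lemma isCov (z : Fin n → ℂ) (i : Fin n) {ζ : ℂ} (hζ : ζ ∈ W0 K z i) : IsCov (r K z i) ζ := by
  classical
  have hsep : ∀ᶠ z' in 𝓝 (L z i ζ), (K.P.map (MvPolynomial.eval z')).Separable := by
    filter_upwards [(Growth.isOpen_ne_zero K.D).mem_nhds hζ] with z' hz'
    exact Interp.separable_of_bezout K.bez z' hz'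
  obtain ⟨τ, hτ, hev⟩ := exists_local_roots' K.P K.monic (L z i ζ) hsep
  have hL : Tendsto (L z i) (𝓝 ζ) (𝓝 (L z i ζ)) := (differentiable_L z i).continuous.tendsto ζ
  refine ⟨fun t ζ' => τ t (L z i ζ'), fun t ht => ?_, ?_⟩
  · have ht' : t ∈ (K.P.map (MvPolynomial.eval (L z i ζ))).roots.toFinset := by
      rw [Multiset.mem_toFinset]
      exact Multiset.mem_toFinset.1 ht
    refine ⟨(hτ t ht').1, ?_⟩
    filter_upwards [hL.eventually (hτ t ht').2] with ζ' h
    exact DifferentiableAt.comp (f := L z i) ζ' h (differentiable_L z i ζ')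
  · filter_upwards [hL.eventually hev] with ζ' h
    constructor
    · intro s hs s' hs' hss
      refine h.1 ?_ ?_ hss
      · rw [Finset.mem_coe, Multiset.mem_toFinset]
        exact Multiset.mem_toFinset.1 (Finset.mem_coe.1 hs)
      · rw [Finset.mem_coe, Multiset.mem_toFinset]
        exact Multiset.mem_toFinset.1 (Finset.mem_coe.1 hs')
    · have h2 := h.2
      ext s
      rw [mem_r, Finset.mem_image]
      have h3 := Finset.ext_iff.1 h2 s
      rw [Multiset.mem_toFinset, Polynomial.mem_roots (K.monic.map _).ne_zero, Finset.mem_image] at h3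
      refine Iff.trans h3 ?_
      simp only [r, Multiset.mem_toFinset]

lemma tendsto_line (z : Fin n → ℂ) (i : Fin n) (q : ℂ × ℂ) :
    Tendsto (fun q : ℂ × ℂ => (L z i q.1, q.2)) (𝓝 q) (𝓝 (L z i q.1, q.2)) := by
  have : Continuous (fun q : ℂ × ℂ => (L z i q.1, q.2)) :=
    ((differentiable_L z i).continuous.comp continuous_fst).prodMk continuous_snd
  exact this.tendsto q

/-- Near a point of the family over `W0`, all points of the family are in the étale locus. -/
lemma eventually_M {z : Fin n → ℂ} {i : Fin n} {ζ t : ℂ} (hζ : ζ ∈ W0 K z i) :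
    ∀ᶠ q : ℂ × ℂ in 𝓝 (ζ, t), q.2 ∈ r K z i q.1 → (L z i q.1, q.2) ∈ K.M := by
  have h1 : Tendsto (Prod.fst : ℂ × ℂ → ℂ) (𝓝 (ζ, t)) (𝓝 ζ) := continuousAt_fst
  filter_upwards [h1.eventually ((isOpen_W0 K z i).mem_nhds hζ)] with q hq hqr
  exact mem_M K hq hqr

/-- A holomorphic function on `X(ℂ)` restricts to a holomorphic function on the family. -/
lemma holAt_of_chartAt {z : Fin n → ℂ} {i : Fin n} {ζ t : ℂ} (hζ : ζ ∈ W0 K z i)
    (ht : t ∈ r K z i ζ) (ψ : An.Pts X → ℂ) (hψ : ChartAt ψ (K.Θ (L z i ζ, t))) :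
    HolAt (r K z i) (fun q => ψ (K.Θ (L z i q.1, q.2))) (ζ, t) := by
  obtain ⟨G, hG1, hG2⟩ := K.exists_chartAt (mem_M K hζ ht) ψ hψ
  refine ⟨fun q => G (L z i q.1, q.2), ?_, ?_⟩
  · filter_upwards [(tendsto_line z i (ζ, t)).eventually hG1] with q hq
    have h2 : DifferentiableAt ℂ (fun q : ℂ × ℂ => (L z i q.1, q.2)) q := by
      refine DifferentiableAt.prodMk ?_ differentiableAt_snd
      exact DifferentiableAt.comp (f := Prod.fst) (g := L z i) q (differentiable_L z i _)
        differentiableAt_fst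
    exact DifferentiableAt.comp (f := fun q : ℂ × ℂ => (L z i q.1, q.2)) q hq h2
  · filter_upwards [(tendsto_line z i (ζ, t)).eventually hG2, eventually_M K hζ] with q h1 h2 h3
    exact h1 (h2 h3)

variable {Y : Scheme.{0}} [Y.Over An.SC]

/-- The pull-back of a regular function under a holomorphic map is `ChartAt`. -/
lemma chartAt_comp (φ : C(An.Pts X, An.Pts Y)) (hφ : An.IsHolMap φ) (V : Y.Opens) (f : Γ(Y, V))
    {x : An.Pts X} (hx : (φ x).pt ∈ V) : ChartAt (fun x => evAt (φ x) V f) x := by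
  let V' : Opens (An.top Y) := ⟨An.Pts.pt ⁻¹' (V : Set Y), An.Pts.isOpen_preimage_pt V⟩
  have h1 : (An.holPred Y).pred (U := V') (fun y => evAt y.1 V f) :=
    holPred_of_chartAt (fun y => evAt y V f) fun y hy => chartAt_evAt V f hy
  have h2 := hφ V' _ h1
  have h3 := (holPred_iff (U := (Opens.map (TopCat.ofHom φ)).obj V')
    (fun x => evAt (φ x.1) V f)).1 h2 x hx
  refine h3.congr ?_
  have h4 : IsOpen ((φ ⁻¹' (An.Pts.pt ⁻¹' (V : Set Y))) : Set (An.Pts X)) :=
    (An.Pts.isOpen_preimage_pt V).preimage φ.continuous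
  filter_upwards [h4.mem_nhds hx] with x' hx'
  exact (ext0_of_mem (U := (Opens.map (TopCat.ofHom φ)).obj V')
    (fun x => evAt (φ x.1) V f) hx').symm

/-- The family of points of `Y` attached to a holomorphic map and a coordinate line. -/
theorem holFam (φ : C(An.Pts X, An.Pts Y)) (hφ : An.IsHolMap φ) (z : Fin n → ℂ) (i : Fin n) :
    HolFam (r K z i) (W0 K z i) (fun q => φ (K.Θ (L z i q.1, q.2))) where
  isOpen := isOpen_W0 K z i
  cov := fun ζ hζ => isCov K z i hζ
  mem := fun ζ hζ t ht V hV => by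
    have h1 := K.eventually_mem (mem_M K hζ ht) (φ ⁻¹' (An.Pts.pt ⁻¹' (V : Set Y)))
      ((An.Pts.isOpen_preimage_pt V).preimage φ.continuous) hV
    filter_upwards [(tendsto_line z i (ζ, t)).eventually h1, eventually_M K hζ] with q h2 h3 h4
    exact h2 (h3 h4)
  hol := fun ζ hζ t ht V f hV => holAt_of_chartAt K hζ ht _ (chartAt_comp φ hφ V f hV)

end Groth.Agent.Gaga.H475.Line
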