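import Groth.Agent.Gaga.H475.Sheets
import Mathlib.Analysis.Complex.RemovableSingularity

/-!
# Lower bounds for holomorphic functions near an isolated singularity, and for functions on a
finite branched family near a puncture
-/

set_option autoImplicit false

namespace Groth.Agent.Gaga.H475.Lower

open Filter Topology
open Groth.Agent.Gaga.H475.Sheets

/-- A bounded holomorphic function near a puncture, which does not vanish identically near the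
puncture, is bounded below by a power. -/
theorem exists_lower {g : ℂ → ℂ} (hd : ∀ᶠ w in 𝓝[≠] (0 : ℂ), DifferentiableAt ℂ g w) {K : ℝ}
    (hb : ∀ᶠ w in 𝓝[≠] (0 : ℂ), ‖g w‖ ≤ K) (hz : ∃ᶠ w in 𝓝[≠] (0 : ℂ), g w ≠ 0) :
    ∃ (N : ℕ) (c : ℝ), 0 < c ∧ ∀ᶠ w in 𝓝[≠] (0 : ℂ), c * ‖w‖ ^ N ≤ ‖g w‖ := by
  have h1 : ∀ᶠ w in 𝓝[≠] (0 : ℂ), DifferentiableAt ℂ g w ∧ ‖g w‖ ≤ K := hd.and hb
  rw [eventually_nhdsWithin_iff] at h1
  set s : Set ℂ := {w | w ∈ ({0} : Set ℂ)ᶜ → DifferentiableAt ℂ g w ∧ ‖g w‖ ≤ K} with hs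
  have hsc : s ∈ 𝓝 (0 : ℂ) := h1
  have hd' : DifferentiableOn ℂ g (s \ {0}) := fun w hw => (hw.1 hw.2).1.differentiableWithinAt
  have hbd : BddAbove (norm ∘ g '' (s \ {0})) := by
    refine ⟨K, ?_⟩
    rintro _ ⟨w, hw, rfl⟩
    exact (hw.1 hw.2).2
  have hext := Complex.differentiableOn_update_limUnder_of_bddAbove hsc hd' hbd
  set g' := Function.update g 0 (limUnder (𝓝[≠] 0) g) with hg'
  have han : AnalyticAt ℂ g' 0 := hext.analyticAt hsc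
  have hnz : ¬ ∀ᶠ w in 𝓝 (0 : ℂ), g' w = 0 := by
    intro h
    refine hz ?_
    filter_upwards [h.filter_mono nhdsWithin_le_nhds, self_mem_nhdsWithin] with w hw hw0
    rw [hg', Function.update_of_ne hw0] at hw
    simpa using hw
  obtain ⟨N, h, hh, hh0, hhe⟩ := han.exists_eventuallyEq_pow_smul_nonzero_iff.2 hnz
  refine ⟨N, ‖h 0‖ / 2, by positivity, ?_⟩
  have h2 : ∀ᶠ w in 𝓝 (0 : ℂ), ‖h 0‖ / 2 < ‖h w‖ := by
    refine (hh.continuousAt.norm).eventually (lt_mem_nhds ?_)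
    have : 0 < ‖h 0‖ := norm_pos_iff.2 hh0
    linarith
  filter_upwards [hhe.filter_mono nhdsWithin_le_nhds, h2.filter_mono nhdsWithin_le_nhds,
    self_mem_nhdsWithin] with w hw1 hw2 hw0
  rw [hg', Function.update_of_ne hw0] at hw1
  rw [hw1, sub_zero, smul_eq_mul, norm_mul, norm_pow, mul_comm]
  gcongr

/-- Data describing a meromorphic function `s` near the puncture, in the coordinate `w` given by
`e : ℂ → ℂ`: `s = a / b` on the family, with `a`, `b` bounded, `b` holomorphic and nowhere locally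
zero. -/
def PunctData (r : ℂ → Finset ℂ) (s : ℂ × ℂ → ℂ) (F : Filter ℂ) : Prop :=
  ∃ (a b : ℂ × ℂ → ℂ) (K : ℝ), ∀ᶠ ζ in F, IsCov r ζ ∧ ∀ t ∈ r ζ, HolAt r b (ζ, t) ∧
    ¬ LocZero r b (ζ, t) ∧ ‖a (ζ, t)‖ ≤ K ∧ ‖b (ζ, t)‖ ≤ K ∧
    (b (ζ, t) ≠ 0 → HolAt r s (ζ, t) ∧ s (ζ, t) = a (ζ, t) / b (ζ, t))

theorem exists_bound {r : ℂ → Finset ℂ} {s : ℂ × ℂ → ℂ} {F : Filter ℂ} {m : ℕ}
    (hr : ∀ ζ, (r ζ).card ≤ m) (h : PunctData r s F) (e : ℂ → ℂ) (he : Tendsto e (𝓝[≠] 0) F)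
    (hed : ∀ᶠ w in 𝓝[≠] (0 : ℂ), DifferentiableAt ℂ e w)
    (heo : ∀ᶠ w in 𝓝[≠] (0 : ℂ), 𝓝 (e w) ≤ map e (𝓝 w)) :
    ∃ (N : ℕ) (K : ℝ), ∀ᶠ w in 𝓝[≠] (0 : ℂ), IsCov r (e w) ∧ ∀ t ∈ r (e w), HolAt r s (e w, t) ∧
      ‖s (e w, t)‖ * ‖w‖ ^ N ≤ K := by
  classical
  obtain ⟨a, b, K0, hK0⟩ := h
  -- enlarge the constant
  set K : ℝ := max K0 1 with hKdef
  have hK1 : 1 ≤ K := le_max_right _ _
  have hK : ∀ᶠ ζ in F, IsCov r ζ ∧ ∀ t ∈ r ζ, HolAt r b (ζ, t) ∧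
    ¬ LocZero r b (ζ, t) ∧ ‖a (ζ, t)‖ ≤ K ∧ ‖b (ζ, t)‖ ≤ K ∧
    (b (ζ, t) ≠ 0 → HolAt r s (ζ, t) ∧ s (ζ, t) = a (ζ, t) / b (ζ, t)) := by
    filter_upwards [hK0] with ζ hζ
    refine ⟨hζ.1, fun t ht => ?_⟩
    obtain ⟨h1, h2, h3, h4, h5⟩ := hζ.2 t ht
    exact ⟨h1, h2, h3.trans (le_max_left _ _), h4.trans (le_max_left _ _), h5⟩
  have hw := he.eventually hK
  set β : ℂ → ℂ := fun ζ => ∏ t ∈ r ζ, b (ζ, t) with hβ
  have hβd : ∀ᶠ w in 𝓝[≠] (0 : ℂ), DifferentiableAt ℂ (fun w => β (e w)) w := by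
    filter_upwards [hw, hed] with w h1 h2
    have h3 : DifferentiableAt ℂ β (e w) := differentiableAt_prod h1.1 fun t ht => (h1.2 t ht).1
    exact DifferentiableAt.comp (f := e) w h3 h2
  have hβb : ∀ᶠ w in 𝓝[≠] (0 : ℂ), ‖β (e w)‖ ≤ K ^ m := by
    filter_upwards [hw] with w h1
    rw [hβ, norm_prod]
    calc ∏ t ∈ r (e w), ‖b (e w, t)‖ ≤ ∏ t ∈ r (e w), K :=
          Finset.prod_le_prod (fun _ _ => norm_nonneg _) fun t ht => (h1.2 t ht).2.2.2.1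
      _ = K ^ (r (e w)).card := Finset.prod_const _
      _ ≤ K ^ m := pow_le_pow_right₀ hK1 (hr _)
  have hβz : ∃ᶠ w in 𝓝[≠] (0 : ℂ), β (e w) ≠ 0 := by
    intro hcon
    have hcon' : ∀ᶠ w in 𝓝[≠] (0 : ℂ), β (e w) = 0 := by
      filter_upwards [hcon] with w hw
      simpa using hw
    -- choose a point `w` near which everything holds
    have h1 : ∀ᶠ w in 𝓝[≠] (0 : ℂ), ∀ᶠ w' in 𝓝 w, β (e w') = 0 := by
      rw [eventually_nhdsWithin_iff] at hcon' ⊢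
      filter_upwards [hcon'.eventually_nhds] with w hw1 hw0
      filter_upwards [hw1, (isOpen_compl_singleton (x := (0 : ℂ))).mem_nhds hw0] with w' h2 h3
      exact h2 h3
    obtain ⟨w, h2, h3, h4⟩ := (h1.and (hw.and heo)).exists
    have h5 : ∀ᶠ ζ in 𝓝 (e w), β ζ = 0 := by
      have : ∀ᶠ ζ in map e (𝓝 w), β ζ = 0 := Filter.eventually_map.2 h2
      exact this.filter_mono h4
    obtain ⟨t, ht, h6⟩ := exists_locZero_of_prod h3.1 (fun t ht => (h3.2 t ht).1) h5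
    exact (h3.2 t ht).2.1 h6
  obtain ⟨N, c, hc, hN⟩ := exists_lower hβd hβb hβz
  refine ⟨N, K * K ^ m / c, ?_⟩
  filter_upwards [hw, hN, self_mem_nhdsWithin] with w h1 h2 hw0
  refine ⟨h1.1, fun t ht => ?_⟩
  have hwpos : 0 < ‖w‖ := norm_pos_iff.2 hw0
  have h3 : ‖β (e w)‖ ≤ ‖b (e w, t)‖ * K ^ m := by
    rw [hβ]
    simp only
    rw [← Finset.mul_prod_erase _ _ ht, norm_mul]
    gcongr
    rw [norm_prod]
    calc ∏ t' ∈ (r (e w)).erase t, ‖b (e w, t')‖ ≤ ∏ t' ∈ (r (e w)).erase t, K :=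
          Finset.prod_le_prod (fun _ _ => norm_nonneg _) fun t' ht' =>
            (h1.2 t' (Finset.mem_of_mem_erase ht')).2.2.2.1
      _ = K ^ ((r (e w)).erase t).card := Finset.prod_const _
      _ ≤ K ^ m := pow_le_pow_right₀ hK1 ((Finset.card_le_card (Finset.erase_subset _ _)).trans (hr _))
  have h4 : c * ‖w‖ ^ N ≤ ‖b (e w, t)‖ * K ^ m := h2.trans h3
  have hKm : 0 < K ^ m := by positivity
  have h5 : 0 < ‖b (e w, t)‖ := by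
    by_contra hcon
    have : ‖b (e w, t)‖ = 0 := le_antisymm (not_lt.1 hcon) (norm_nonneg _)
    rw [this, zero_mul] at h4
    have : 0 < c * ‖w‖ ^ N := by positivity
    linarith
  obtain ⟨h6, h7⟩ := (h1.2 t ht).2.2.2.2 (norm_pos_iff.1 h5)
  refine ⟨h6, ?_⟩
  have h8 := (h1.2 t ht).2.2.1
  rw [h7, norm_div, div_mul_eq_mul_div, div_le_div_iff₀ h5 hc]
  have h9 : 0 ≤ ‖a (e w, t)‖ := norm_nonneg _
  calc ‖a (e w, t)‖ * ‖w‖ ^ N * c = ‖a (e w, t)‖ * (c * ‖w‖ ^ N) := by ring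
    _ ≤ K * (‖b (e w, t)‖ * K ^ m) := by gcongr
    _ = K * K ^ m * ‖b (e w, t)‖ := by ring

end Groth.Agent.Gaga.H475.Lower
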