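import Groth.Agent.Gaga.H475.Family
import Groth.Agent.Gaga.H475.Lower
import Mathlib.Topology.Separation.Hausdorff

/-!
# A regular function composed with a holomorphic family is meromorphic at the punctures
-/

set_option autoImplicit false

namespace Groth.Agent.Gaga.H475.Punct

open Filter Topology CategoryTheory AlgebraicGeometry TopologicalSpace Opposite
open Groth.Agent.Gaga.H475.Sheets Groth.Agent.Gaga.H475.Lower Groth.Agent.Gaga.H475.Family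
open Groth.Agent.An.H863.PtsBasic Groth.Agent.An.H863.PtsCont

variable {Y : Scheme.{0}} [Y.Over An.SC]

lemma evAt_pow' (x : An.Pts Y) {U : Y.Opens} (hx : x.pt ∈ U) (f : Γ(Y, U)) (n : ℕ) :
    evAt x U (f ^ n) = evAt x U f ^ n := by
  rw [evAt_of_mem hx, evAt_of_mem hx, ev_pow]

lemma holAt_congr {r : ℂ → Finset ℂ} {f f' : ℂ × ℂ → ℂ} {q0 : ℂ × ℂ} (h : HolAt r f q0)
    (he : ∀ᶠ q in 𝓝 q0, q.2 ∈ r q.1 → f' q = f q) : HolAt r f' q0 := by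
  obtain ⟨g, h1, h2⟩ := h
  refine ⟨g, h1, ?_⟩
  filter_upwards [h2, he] with q h3 h4 h5
  rw [h4 h5, h3 h5]

lemma holAt_pow {r : ℂ → Finset ℂ} {f : ℂ × ℂ → ℂ} {q0 : ℂ × ℂ} (h : HolAt r f q0) (n : ℕ) :
    HolAt r (fun q => f q ^ n) q0 := by
  obtain ⟨g, h1, h2⟩ := h
  refine ⟨fun q => g q ^ n, ?_, ?_⟩
  · filter_upwards [h1] with q hq
    exact hq.pow n
  · filter_upwards [h2] with q h3 h4
    rw [h3 h4]

/-- Local denominators: near a point `y` of an affine open `V'`, a regular function on `V ∋ y` is a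
fraction. -/
lemma exists_fraction {V V' : Y.Opens} (hV' : IsAffineOpen V') (g : Γ(Y, V)) {y : Y} (hy : y ∈ V)
    (hy' : y ∈ V') : ∃ (b a : Γ(Y, V')) (m : ℕ), y ∈ Y.basicOpen b ∧ Y.basicOpen b ≤ V ∧
      ∀ z : An.Pts Y, z.pt ∈ Y.basicOpen b → evAt z V g * evAt z V' b ^ m = evAt z V' a := by
  obtain ⟨b, hb, hyb⟩ := hV'.exists_basicOpen_le (V := V) ⟨y, hy⟩ hy'
  change y ∈ Y.basicOpen b at hyb
  have := hV'.isLocalization_basicOpen b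
  obtain ⟨m, a, ha⟩ := IsLocalization.Away.surj b (Y.presheaf.map (homOfLE hb).op g)
  refine ⟨b, a, m, hyb, hb, fun z hz => ?_⟩
  have hzV' : z.pt ∈ V' := Y.basicOpen_le b hz
  have h1 : ∀ c : Γ(Y, V'), z.ev (Y.basicOpen b) hz (algebraMap Γ(Y, V') Γ(Y, Y.basicOpen b) c) =
      z.ev V' hzV' c := fun c => ev_res z (Y.basicOpen_le b) hz c
  have h2 := congr(z.ev (Y.basicOpen b) hz $ha)
  rw [ev_mul, ← map_pow, h1, h1, ev_pow, ev_res z hb hz g] at h2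
  rw [evAt_of_mem (hb hz), evAt_of_mem hzV', evAt_of_mem hzV', h2]

/-- **Meromorphy at the punctures.** -/
theorem punctData_of_lim {r : ℂ → Finset ℂ} {W0 : Set ℂ} {Ψ : ℂ × ℂ → An.Pts Y}
    (H : HolFam r W0 Ψ) (hconn : IsPreconnected W0) {V : Y.Opens} (g : Γ(Y, V)) {ζ1 : ℂ}
    (h1 : ζ1 ∈ W0) (hV1 : ∀ t ∈ r ζ1, (Ψ (ζ1, t)).pt ∈ V) (F : Filter ℂ)
    (hW0 : ∀ᶠ ζ in F, ζ ∈ W0) {T : Type*} [TopologicalSpace T] [T2Space T] (Θ : ℂ × ℂ → T)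
    (φ : T → An.Pts Y) (hΨ : ∀ q, Ψ q = φ (Θ q)) (hφ : Continuous φ) (Lim : Set T)
    (hfin : Lim.Finite)
    (hΘ : ∀ ζ ∈ W0, ∀ t ∈ r ζ, ∀ N : Set T, IsOpen N → Θ (ζ, t) ∈ N →
      ∀ᶠ q in 𝓝 (ζ, t), q.2 ∈ r q.1 → Θ q ∈ N)
    (hlim : ∀ N : Set T, IsOpen N → Lim ⊆ N → ∀ᶠ ζ in F, ∀ t ∈ r ζ, Θ (ζ, t) ∈ N) :
    PunctData r (fun q => evAt (Ψ q) V g) F := by
  classical
  -- the finite set of generic points
  have hex1 : ∀ t : ℂ, ∃ y : Y, t ∈ r ζ1 → IsGen r Ψ (ζ1, t) y := by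
    intro t
    by_cases ht : t ∈ r ζ1
    · obtain ⟨y, hy⟩ := H.exists_gen h1 ht
      exact ⟨y, fun _ => hy⟩
    · exact ⟨(Ψ (ζ1, t)).pt, fun h => absurd h ht⟩
  choose yt hyt using hex1
  set HS : Finset Y := (r ζ1).image yt with hHS
  have hHSV : ∀ y ∈ HS, y ∈ V := by
    intro y hy
    obtain ⟨t, ht, rfl⟩ := Finset.mem_image.1 hy
    rw [(hyt t ht) V]
    intro h
    exact h.self_of_nhds ht (hV1 t ht)
  have hgenHS : ∀ ζ ∈ W0, ∀ t ∈ r ζ, ∀ y, IsGen r Ψ (ζ, t) y → y ∈ HS := by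
    intro ζ hζ t ht y hy
    obtain ⟨t1, ht1, h2⟩ := H.exists_isGen_over hconn h1 hζ ht hy
    rw [h2.unique (hyt t1 ht1)]
    exact Finset.mem_image_of_mem _ ht1
  -- charts of `Y` at the limit points
  have hchart : ∀ x : T, ∃ V' : Y.Opens, IsAffineOpen V' ∧ (φ x).pt ∈ V' := by
    intro x
    obtain ⟨V', hV', hmem, -⟩ := exists_isAffineOpen_mem_and_subset (U := (⊤ : Y.Opens))
      (x := (φ x).pt) trivial
    exact ⟨V', hV', hmem⟩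
  choose Vx hVx hxV using hchart
  -- fractions
  have hfrac : ∀ (x : T) (y : Y), ∃ (b a : Γ(Y, Vx x)) (m : ℕ), y ∈ HS → y ∈ Vx x →
      (y ∈ Y.basicOpen b ∧ Y.basicOpen b ≤ V ∧
      ∀ z : An.Pts Y, z.pt ∈ Y.basicOpen b → evAt z V g * evAt z (Vx x) b ^ m = evAt z (Vx x) a) := by
    intro x y
    by_cases hy : y ∈ HS ∧ y ∈ Vx x
    · obtain ⟨b, a, m, h2⟩ := exists_fraction (hVx x) g (hHSV y hy.1) hy.2
      exact ⟨b, a, m, fun _ _ => h2⟩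
    · exact ⟨0, 0, 0, fun h3 h4 => absurd ⟨h3, h4⟩ hy⟩
  choose b a m hab using hfrac
  -- disjoint neighbourhoods
  obtain ⟨N, hN, hNd⟩ := hfin.t2_separation
  -- the values of `a`, `b` along `φ`
  let A : T → Y → T → ℂ := fun x y x' => evAt (φ x') (Vx x) (a x y * b x y)
  let B : T → Y → T → ℂ := fun x y x' => evAt (φ x') (Vx x) (b x y) ^ (m x y + 1)
  have hcont : ∀ (x : T) (f : Γ(Y, Vx x)), ContinuousAt (fun x' => evAt (φ x') (Vx x) f) x := by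
    intro x f
    exact ContinuousAt.comp (f := φ) (g := fun z => evAt z (Vx x) f)
      (continuousAt_evAt (Vx x) f (hxV x)) hφ.continuousAt
  have hN' : ∀ x : T, ∃ N' : Set T, IsOpen N' ∧ x ∈ N' ∧ N' ⊆ N x ∧ ∀ x' ∈ N', (φ x').pt ∈ Vx x ∧
      ∀ y ∈ HS, ‖A x y x'‖ ≤ ‖A x y x‖ + 1 ∧ ‖B x y x'‖ ≤ ‖B x y x‖ + 1 := by
    intro x
    have h2 : ∀ᶠ x' in 𝓝 x, ∀ y ∈ HS, ‖A x y x'‖ ≤ ‖A x y x‖ + 1 ∧ ‖B x y x'‖ ≤ ‖B x y x‖ + 1 := by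
      rw [Filter.eventually_all_finset]
      intro y _
      have h3 : ∀ᶠ x' in 𝓝 x, ‖A x y x'‖ < ‖A x y x‖ + 1 :=
        (hcont x (a x y * b x y)).norm.tendsto.eventually_lt_const (lt_add_one _)
      have h4 : ∀ᶠ x' in 𝓝 x, ‖B x y x'‖ < ‖B x y x‖ + 1 :=
        ((hcont x (b x y)).pow (m x y + 1)).norm.tendsto.eventually_lt_const (lt_add_one _)
      filter_upwards [h3, h4] with x' h5 h6 using ⟨h5.le, h6.le⟩
    have h3 : ∀ᶠ x' in 𝓝 x, (φ x').pt ∈ Vx x :=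
      hφ.continuousAt.eventually ((An.Pts.isOpen_preimage_pt (Vx x)).mem_nhds (hxV x))
    obtain ⟨N', h4, h5, h6⟩ := eventually_nhds_iff.1 ((h2.and h3).and ((hN x).2.mem_nhds (hN x).1))
    exact ⟨N', h5, h6, fun x' hx' => (h4 x' hx').2, fun x' hx' =>
      ⟨(h4 x' hx').1.2, (h4 x' hx').1.1⟩⟩
  choose N' hN'o hN'x hN'N hN'b using hN'
  -- index functions
  have hxi : ∀ q : ℂ × ℂ, ∃ x : T, (∃ x ∈ Lim, Θ q ∈ N' x) → x ∈ Lim ∧ Θ q ∈ N' x := by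
    intro q
    by_cases h : ∃ x ∈ Lim, Θ q ∈ N' x
    · obtain ⟨x, hx⟩ := h
      exact ⟨x, fun _ => hx⟩
    · exact ⟨Θ q, fun h' => absurd h' h⟩
  choose xi hxi using hxi
  have hxiu : ∀ q x, x ∈ Lim → Θ q ∈ N' x → xi q = x := by
    intro q x hx hq
    obtain ⟨h2, h3⟩ := hxi q ⟨x, hx, hq⟩
    by_contra hne
    have h4 := hNd h2 hx hne
    exact Set.disjoint_left.1 h4 (hN'N _ h3) (hN'N _ hq)
  have heta : ∀ q : ℂ × ℂ, ∃ y : Y, (∃ y, IsGen r Ψ q y) → IsGen r Ψ q y := by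
    intro q
    by_cases h : ∃ y, IsGen r Ψ q y
    · obtain ⟨y, hy⟩ := h
      exact ⟨y, fun _ => hy⟩
    · exact ⟨(Ψ q).pt, fun h' => absurd h' h⟩
  choose eta heta using heta
  -- the fraction
  refine ⟨fun q => A (xi q) (eta q) (Θ q), fun q => B (xi q) (eta q) (Θ q),
    ∑ x ∈ hfin.toFinset, ∑ y ∈ HS, ((‖A x y x‖ + 1) + (‖B x y x‖ + 1)), ?_⟩
  have hU := hlim (⋃ x ∈ Lim, N' x) (isOpen_biUnion fun x _ => hN'o x)
    (fun x hx => Set.mem_biUnion hx (hN'x x))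
  filter_upwards [hW0, hU] with ζ hζ hζN
  refine ⟨H.cov ζ hζ, fun t ht => ?_⟩
  obtain ⟨x0, hx0, hx0N⟩ := Set.mem_iUnion₂.1 (hζN t ht)
  obtain ⟨y0, hy0⟩ := H.exists_gen hζ ht
  have hxi0 : xi (ζ, t) = x0 := hxiu _ _ hx0 hx0N
  have heta0 : eta (ζ, t) = y0 := (heta (ζ, t) ⟨y0, hy0⟩).unique hy0
  have hy0HS : y0 ∈ HS := hgenHS ζ hζ t ht y0 hy0
  have hΨV : (Ψ (ζ, t)).pt ∈ Vx x0 := by
    rw [hΨ]
    exact (hN'b x0 _ hx0N).1
  have hy0V : y0 ∈ Vx x0 := by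
    rw [hy0 (Vx x0)]
    intro h
    exact h.self_of_nhds ht hΨV
  obtain ⟨hyb, hbV, hrel⟩ := hab x0 y0 hy0HS hy0V
  -- near the point the indices are constant
  have hloc : ∀ᶠ q in 𝓝 (ζ, t), q.2 ∈ r q.1 → xi q = x0 ∧ eta q = y0 ∧ (Ψ q).pt ∈ Vx x0 := by
    filter_upwards [hΘ ζ hζ t ht (N' x0) (hN'o x0) hx0N, H.isGen_eventually hζ ht hy0,
      H.mem ζ hζ t ht (Vx x0) hΨV] with q h2 h3 h4 h5
    exact ⟨hxiu _ _ hx0 (h2 h5), (heta q ⟨y0, h3 h5⟩).unique (h3 h5), h4 h5⟩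
  have hbsum : ∀ x ∈ Lim, ∀ y ∈ HS, (‖A x y x‖ + 1) + (‖B x y x‖ + 1) ≤
      ∑ x ∈ hfin.toFinset, ∑ y ∈ HS, ((‖A x y x‖ + 1) + (‖B x y x‖ + 1)) := by
    intro x hx y hy
    refine le_trans ?_ (Finset.single_le_sum (f := fun x => ∑ y ∈ HS,
      ((‖A x y x‖ + 1) + (‖B x y x‖ + 1))) (fun x _ => Finset.sum_nonneg fun y _ => by positivity)
      (hfin.mem_toFinset.2 hx))
    exact Finset.single_le_sum (f := fun y => (‖A x y x‖ + 1) + (‖B x y x‖ + 1))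
      (fun y _ => by positivity) hy
  have hb0 := (hN'b x0 _ hx0N).2 y0 hy0HS
  refine ⟨?_, ?_, ?_, ?_, ?_⟩
  · -- holomorphic
    refine holAt_congr (holAt_pow (H.hol ζ hζ t ht (Vx x0) (b x0 y0) hΨV) (m x0 y0 + 1)) ?_
    filter_upwards [hloc] with q h2 h3
    obtain ⟨h4, h5, _⟩ := h2 h3
    rw [h4, h5]
    simp only [B, ← hΨ]
  · -- nowhere locally zero
    intro hz
    have h2 : ∀ᶠ q in 𝓝 (ζ, t), q.2 ∈ r q.1 → (Ψ q).pt ∉ Y.basicOpen (b x0 y0) := by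
      filter_upwards [hz, hloc] with q h3 h4 h5 h6
      obtain ⟨h7, h8, h9⟩ := h4 h5
      have h10 := h3 h5
      simp only [B] at h10
      rw [h7, h8, ← hΨ] at h10
      exact (evAt_ne_zero_iff h9 _).2 h6 (pow_eq_zero_iff (Nat.succ_ne_zero _) |>.1 h10)
    exact (hy0 (Y.basicOpen (b x0 y0))).1 hyb h2
  · rw [hxi0, heta0]
    refine hb0.1.trans (le_trans ?_ (hbsum x0 hx0 y0 hy0HS))
    linarith [norm_nonneg (B x0 y0 x0)]
  · rw [hxi0, heta0]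
    refine hb0.2.trans (le_trans ?_ (hbsum x0 hx0 y0 hy0HS))
    linarith [norm_nonneg (A x0 y0 x0)]
  · intro hne
    rw [hxi0, heta0] at hne ⊢
    simp only [A, B, ← hΨ] at hne ⊢
    have h2 : evAt (Ψ (ζ, t)) (Vx x0) (b x0 y0) ≠ 0 := fun h => hne (by
      rw [h, zero_pow (Nat.succ_ne_zero _)])
    have h3 : (Ψ (ζ, t)).pt ∈ Y.basicOpen (b x0 y0) := (evAt_ne_zero_iff hΨV _).1 h2
    refine ⟨H.hol ζ hζ t ht V g (hbV h3), ?_⟩
    rw [eq_div_iff hne, evAt_mul, pow_succ, ← mul_assoc, hrel _ h3]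

end Groth.Agent.Gaga.H475.Punct
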