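import Groth.Agent.Gaga.H475.Lower
import Mathlib.Analysis.Normed.Field.Lemmas
import Mathlib.Topology.Algebra.Polynomial
import Mathlib.Analysis.Calculus.Deriv.Polynomial

/-!
# Sums over a finite branched family of a function with meromorphic singularities are rational
-/

set_option autoImplicit false

namespace Groth.Agent.Gaga.H475.Rational

open Filter Topology Polynomial Bornology
open Groth.Agent.Gaga.H475.Sheets Groth.Agent.Gaga.H475.Lower Groth.Agent.An.H869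

variable {r : ℂ → Finset ℂ} {s g : ℂ × ℂ → ℂ} {m : ℕ}

lemma bound_at (hr : ∀ ζ, (r ζ).card ≤ m) (t0 : ℂ) (hs : PunctData r s (𝓝[≠] t0)) :
    ∃ (N : ℕ) (K : ℝ), ∀ᶠ ζ in 𝓝[≠] t0, IsCov r ζ ∧ ∀ t ∈ r ζ, HolAt r s (ζ, t) ∧
      ‖s (ζ, t)‖ * ‖ζ - t0‖ ^ N ≤ K := by
  have he : Tendsto (fun w : ℂ => t0 + w) (𝓝[≠] 0) (𝓝[≠] t0) := by
    rw [tendsto_nhdsWithin_iff]
    constructor
    · have : ContinuousAt (fun w : ℂ => t0 + w) 0 := by fun_prop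
      have h2 := this.tendsto
      simp only [add_zero] at h2
      exact h2.mono_left nhdsWithin_le_nhds
    · filter_upwards [self_mem_nhdsWithin] with w hw
      simpa using hw
  obtain ⟨N, K, hNK⟩ := exists_bound hr hs (fun w => t0 + w) he
    (Eventually.of_forall fun w => by fun_prop)
    (Eventually.of_forall fun w => by
      rw [show (fun w : ℂ => t0 + w) = ⇑(Homeomorph.addLeft t0) from rfl, Homeomorph.map_nhds_eq]
      exact le_rfl)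
  refine ⟨N, K, ?_⟩
  have h1 : Tendsto (fun ζ : ℂ => ζ - t0) (𝓝[≠] t0) (𝓝[≠] 0) := by
    rw [tendsto_nhdsWithin_iff]
    constructor
    · have : ContinuousAt (fun ζ : ℂ => ζ - t0) t0 := by fun_prop
      have h2 := this.tendsto
      simp only [sub_self] at h2
      exact h2.mono_left nhdsWithin_le_nhds
    · filter_upwards [self_mem_nhdsWithin] with ζ hζ
      simpa [sub_eq_zero] using hζ
  filter_upwards [h1.eventually hNK] with ζ hζ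
  simp only [add_sub_cancel] at hζ
  exact hζ

lemma bound_inf (hr : ∀ ζ, (r ζ).card ≤ m) (hs : PunctData r s (cobounded ℂ)) :
    ∃ (N : ℕ) (K : ℝ), ∀ᶠ ζ in cobounded ℂ, IsCov r ζ ∧ ∀ t ∈ r ζ, HolAt r s (ζ, t) ∧
      ‖s (ζ, t)‖ ≤ K * ‖ζ‖ ^ N := by
  obtain ⟨N, K, hNK⟩ := exists_bound hr hs (fun w => w⁻¹) tendsto_inv₀_nhdsNE_zero
    (by
      filter_upwards [self_mem_nhdsWithin] with w hw
      exact differentiableAt_inv hw)
    (by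
      filter_upwards [self_mem_nhdsWithin] with w hw
      have h1 : Tendsto (fun w : ℂ => w⁻¹) (𝓝 w⁻¹) (𝓝 w) := by
        have := tendsto_inv₀ (inv_ne_zero (a := w) hw)
        rwa [inv_inv] at this
      intro U hU
      rw [Filter.mem_map] at hU
      have h2 := h1 hU
      rw [Filter.mem_map] at h2
      convert h2 using 1
      ext x
      simp)
  refine ⟨N, K, ?_⟩
  have h1 : Tendsto Inv.inv (cobounded ℂ) (𝓝[≠] 0) := tendsto_inv₀_cobounded'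
  have h2 : ∀ᶠ ζ in cobounded ℂ, ζ ≠ 0 := by
    have h3 := h1.eventually self_mem_nhdsWithin
    filter_upwards [h3] with ζ hζ h0
    simp [h0] at hζ
  filter_upwards [h1.eventually hNK, h2] with ζ hζ h0
  rw [inv_inv] at hζ
  refine ⟨hζ.1, fun t ht => ⟨(hζ.2 t ht).1, ?_⟩⟩
  have h3 := (hζ.2 t ht).2
  have h4 : 0 < ‖ζ‖ := norm_pos_iff.2 h0
  rwa [norm_inv, inv_pow, ← div_eq_mul_inv, div_le_iff₀ (by positivity)] at h3

/-- The exceptional set. -/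
def Bad (r : ℂ → Finset ℂ) (s : ℂ × ℂ → ℂ) : Set ℂ :=
  {ζ | ¬ (IsCov r ζ ∧ ∀ t ∈ r ζ, HolAt r s (ζ, t))}

lemma finite_bad (hr : ∀ ζ, (r ζ).card ≤ m) (hs : ∀ t0, PunctData r s (𝓝[≠] t0))
    (hinf : PunctData r s (cobounded ℂ)) : (Bad r s).Finite := by
  obtain ⟨N, K, h1⟩ := bound_inf hr hinf
  have h2 : ∀ᶠ ζ in cobounded ℂ, ζ ∉ Bad r s := by
    filter_upwards [h1] with ζ hζ hbad
    exact hbad ⟨hζ.1, fun t ht => (hζ.2 t ht).1⟩
  have h3 : IsBounded (Bad r s) := by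
    rw [← isCobounded_compl_iff]
    exact h2
  obtain ⟨R, hR⟩ := h3.subset_closedBall 0
  have hK : IsCompact (Metric.closedBall (0 : ℂ) R) := isCompact_closedBall 0 R
  have h4 : (Metric.closedBall (0 : ℂ) R ∩ Bad r s).Finite := by
    refine hK.induction_on (p := fun S => (S ∩ Bad r s).Finite) (by simp) ?_ ?_ ?_
    · exact fun A B hAB hB => hB.subset (Set.inter_subset_inter_left _ hAB)
    · intro A B hA hB
      rw [Set.union_inter_distrib_right]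
      exact hA.union hB
    · intro t0 _
      obtain ⟨N, K, h5⟩ := bound_at hr t0 (hs t0)
      have h6 : ∀ᶠ ζ in 𝓝[≠] t0, ζ ∉ Bad r s := by
        filter_upwards [h5] with ζ hζ hbad
        exact hbad ⟨hζ.1, fun t ht => (hζ.2 t ht).1⟩
      rw [eventually_nhdsWithin_iff] at h6
      refine ⟨_, mem_nhdsWithin_of_mem_nhds h6, ?_⟩
      refine (Set.finite_singleton t0).subset ?_
      rintro ζ ⟨h7, h8⟩
      by_contra hne
      exact h7 hne h8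
  exact h4.subset fun ζ hζ => ⟨hR hζ, hζ⟩

/-- **Rationality** of sums over the family. -/
theorem exists_rational (hr : ∀ ζ, (r ζ).card ≤ m) (hs : ∀ t0, PunctData r s (𝓝[≠] t0))
    (hinf : PunctData r s (cobounded ℂ)) (hg : ∀ ζ, ∀ t ∈ r ζ, HolAt r g (ζ, t)) (Kg : ℝ) (Ng : ℕ)
    (hgb : ∀ ζ, ∀ t ∈ r ζ, ‖g (ζ, t)‖ ≤ Kg * (1 + ‖ζ‖) ^ Ng) :
    ∃ p q : ℂ[X], q ≠ 0 ∧ ∀ ζ, IsCov r ζ → (∀ t ∈ r ζ, HolAt r s (ζ, t)) →
      q.eval ζ * ∑ t ∈ r ζ, s (ζ, t) * g (ζ, t) = p.eval ζ := by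
  classical
  have hfin := finite_bad hr hs hinf
  -- enlarge the constant
  wlog hKg : 0 ≤ Kg generalizing Kg with H
  · refine H (max Kg 0) (fun ζ t ht => (hgb ζ t ht).trans ?_) (le_max_right _ _)
    gcongr
    exact le_max_left _ _
  set S : Finset ℂ := hfin.toFinset with hS
  have hmemS : ∀ ζ, ζ ∈ S ↔ ζ ∈ Bad r s := fun ζ => hfin.mem_toFinset
  have hgood : ∀ ζ, ζ ∉ S → IsCov r ζ ∧ ∀ t ∈ r ζ, HolAt r s (ζ, t) := by
    intro ζ hζ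
    rw [hmemS, Bad, Set.mem_ofPred_eq, not_not] at hζ
    exact hζ
  choose N K hNK using fun t0 => bound_at hr t0 (hs t0)
  obtain ⟨Ni, Ki, hNKi⟩ := bound_inf hr hinf
  set q : ℂ[X] := ∏ c ∈ S, (X - C c) ^ N c with hq
  have hq0 : q ≠ 0 := by
    rw [hq, Finset.prod_ne_zero_iff]
    exact fun c _ => pow_ne_zero _ (X_sub_C_ne_zero c)
  have hqe : ∀ ζ, q.eval ζ = ∏ c ∈ S, (ζ - c) ^ N c := by
    intro ζ
    rw [hq, eval_prod]
    simp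
  set Cf : ℂ → ℂ := fun ζ => ∑ t ∈ r ζ, s (ζ, t) * g (ζ, t) with hCf
  have hdiff : ∀ ζ, ζ ∉ S → DifferentiableAt ℂ Cf ζ := by
    intro ζ hζ
    exact differentiableAt_sum (f := fun q => s q * g q) (hgood ζ hζ).1
      fun t ht => ((hgood ζ hζ).2 t ht).mul (hg ζ t ht)
  have hdiff' : ∀ ζ, ζ ∉ S → DifferentiableAt ℂ (fun ζ => q.eval ζ * Cf ζ) ζ :=
    fun ζ hζ => (q.differentiableAt).mul (hdiff ζ hζ)
  -- local bounds for `Cf`
  have hloc : ∀ t0, ∃ B : ℝ, ∀ᶠ ζ in 𝓝[≠] t0, ‖Cf ζ‖ * ‖ζ - t0‖ ^ N t0 ≤ B := by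
    intro t0
    have hc : Continuous (fun ζ : ℂ => Kg * (1 + ‖ζ‖) ^ Ng) := by fun_prop
    have h1 : ∀ᶠ ζ in 𝓝 t0, Kg * (1 + ‖ζ‖) ^ Ng < Kg * (1 + ‖t0‖) ^ Ng + 1 :=
      (hc.tendsto t0).eventually_lt_const (by linarith)
    set G := Kg * (1 + ‖t0‖) ^ Ng + 1
    have hG : 0 ≤ G := by positivity
    refine ⟨m * (|K t0| * G), ?_⟩
    filter_upwards [hNK t0, h1.filter_mono nhdsWithin_le_nhds] with ζ h2 h3
    have h4 : ‖Cf ζ‖ ≤ ∑ t ∈ r ζ, ‖s (ζ, t)‖ * ‖g (ζ, t)‖ := by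
      refine (norm_sum_le _ _).trans ?_
      simp
    calc ‖Cf ζ‖ * ‖ζ - t0‖ ^ N t0 ≤ (∑ t ∈ r ζ, ‖s (ζ, t)‖ * ‖g (ζ, t)‖) * ‖ζ - t0‖ ^ N t0 := by gcongr
      _ = ∑ t ∈ r ζ, (‖s (ζ, t)‖ * ‖ζ - t0‖ ^ N t0) * ‖g (ζ, t)‖ := by
          rw [Finset.sum_mul]
          exact Finset.sum_congr rfl fun t _ => by ring
      _ ≤ ∑ t ∈ r ζ, |K t0| * G := by
          refine Finset.sum_le_sum fun t ht => ?_
          have h5 := (h2.2 t ht).2
          have h6 := (hgb ζ t ht).trans h3.le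
          have h7 := h5.trans (le_abs_self _)
          gcongr
      _ = (r ζ).card * (|K t0| * G) := by rw [Finset.sum_const, nsmul_eq_mul]
      _ ≤ m * (|K t0| * G) := by
          have := hr ζ
          gcongr
  have hbdd : ∀ t0, ∃ B : ℝ, ∀ᶠ ζ in 𝓝[≠] t0, ‖q.eval ζ * Cf ζ‖ ≤ B := by
    intro t0
    by_cases ht0 : t0 ∈ S
    · obtain ⟨B, hB⟩ := hloc t0
      set q1 : ℂ[X] := ∏ c ∈ S.erase t0, (X - C c) ^ N c with hq1
      have hc : Continuous (fun ζ : ℂ => ‖q1.eval ζ‖) := by fun_prop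
      have h1 : ∀ᶠ ζ in 𝓝 t0, ‖q1.eval ζ‖ < ‖q1.eval t0‖ + 1 :=
        (hc.tendsto t0).eventually_lt_const (by linarith)
      refine ⟨(‖q1.eval t0‖ + 1) * |B|, ?_⟩
      filter_upwards [hB, h1.filter_mono nhdsWithin_le_nhds] with ζ h2 h3
      have h4 : q.eval ζ = q1.eval ζ * (ζ - t0) ^ N t0 := by
        rw [hq, ← Finset.prod_erase_mul _ _ ht0, eval_mul, eval_pow, eval_sub, eval_X, eval_C]
      rw [h4, norm_mul, norm_mul, norm_pow]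
      calc ‖q1.eval ζ‖ * ‖ζ - t0‖ ^ N t0 * ‖Cf ζ‖ = ‖q1.eval ζ‖ * (‖Cf ζ‖ * ‖ζ - t0‖ ^ N t0) := by ring
        _ ≤ (‖q1.eval t0‖ + 1) * |B| := by
            have h5 := h2.trans (le_abs_self _)
            gcongr
    · have hc : ContinuousAt (fun ζ => ‖q.eval ζ * Cf ζ‖) t0 := (hdiff' t0 ht0).continuousAt.norm
      have h1 : ∀ᶠ ζ in 𝓝 t0, ‖q.eval ζ * Cf ζ‖ < ‖q.eval t0 * Cf t0‖ + 1 :=
        hc.tendsto.eventually_lt_const (by linarith)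
      exact ⟨_, (h1.filter_mono nhdsWithin_le_nhds).mono fun _ h => h.le⟩
  obtain ⟨G, hG, hGe⟩ := OneVar.exists_entire_of_bounded S (fun ζ => q.eval ζ * Cf ζ) hdiff' hbdd
  -- growth at infinity
  have hgrow : ∃ (K1 : ℝ) (N1 : ℕ), 0 ≤ K1 ∧ ∀ᶠ ζ in cobounded ℂ, ‖G ζ‖ ≤ K1 * (1 + ‖ζ‖) ^ N1 := by
    obtain ⟨Kq, Nq, hKq, hq1⟩ : ∃ (Kq : ℝ) (Nq : ℕ), 0 ≤ Kq ∧
        ∀ ζ, ‖q.eval ζ‖ ≤ Kq * (1 + ‖ζ‖) ^ Nq := by
      refine ⟨∑ i ∈ Finset.range (q.natDegree + 1), ‖q.coeff i‖, q.natDegree, by positivity,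
        fun ζ => ?_⟩
      rw [eval_eq_sum_range, Finset.sum_mul]
      refine (norm_sum_le _ _).trans (Finset.sum_le_sum fun i hi => ?_)
      rw [norm_mul, norm_pow]
      have h1 : ‖ζ‖ ^ i ≤ (1 + ‖ζ‖) ^ q.natDegree := by
        calc ‖ζ‖ ^ i ≤ (1 + ‖ζ‖) ^ i := by
              gcongr
              linarith
          _ ≤ (1 + ‖ζ‖) ^ q.natDegree := by
              refine pow_le_pow_right₀ (by linarith [norm_nonneg ζ]) ?_
              have := Finset.mem_range.1 hi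
              omega
      gcongr
    refine ⟨Kq * (m * (|Ki| * Kg)), Nq + (Ni + Ng), by positivity, ?_⟩
    have hSc : ∀ᶠ ζ in cobounded ℂ, ζ ∉ S := by
      have h1 : IsBounded (S : Set ℂ) := S.finite_toSet.isBounded
      filter_upwards [isCobounded_compl_iff.2 h1] with ζ hζ
      simpa using hζ
    filter_upwards [hNKi, hSc] with ζ h1 h2
    rw [hGe ζ h2, norm_mul]
    have h4 : ‖Cf ζ‖ ≤ ∑ t ∈ r ζ, ‖s (ζ, t)‖ * ‖g (ζ, t)‖ := by
      refine (norm_sum_le _ _).trans ?_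
      simp
    have h5 : ‖Cf ζ‖ ≤ (m * (|Ki| * Kg)) * (1 + ‖ζ‖) ^ (Ni + Ng) := by
      refine h4.trans ?_
      calc ∑ t ∈ r ζ, ‖s (ζ, t)‖ * ‖g (ζ, t)‖
          ≤ ∑ t ∈ r ζ, (|Ki| * (1 + ‖ζ‖) ^ Ni) * (Kg * (1 + ‖ζ‖) ^ Ng) := by
            refine Finset.sum_le_sum fun t ht => ?_
            have h6 : ‖s (ζ, t)‖ ≤ |Ki| * (1 + ‖ζ‖) ^ Ni := by
              refine (h1.2 t ht).2.trans ?_
              have : ‖ζ‖ ^ Ni ≤ (1 + ‖ζ‖) ^ Ni := by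
                gcongr
                linarith
              have := le_abs_self Ki
              gcongr
            have h7 := hgb ζ t ht
            gcongr
        _ = (r ζ).card * ((|Ki| * Kg) * (1 + ‖ζ‖) ^ (Ni + Ng)) := by
            rw [Finset.sum_const, nsmul_eq_mul, pow_add]
            ring
        _ ≤ m * ((|Ki| * Kg) * (1 + ‖ζ‖) ^ (Ni + Ng)) := by
            have := hr ζ
            gcongr
        _ = (m * (|Ki| * Kg)) * (1 + ‖ζ‖) ^ (Ni + Ng) := by ring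
    calc ‖q.eval ζ‖ * ‖Cf ζ‖ ≤ (Kq * (1 + ‖ζ‖) ^ Nq) * ((m * (|Ki| * Kg)) * (1 + ‖ζ‖) ^ (Ni + Ng)) := by
          have := hq1 ζ
          gcongr
      _ = Kq * (m * (|Ki| * Kg)) * (1 + ‖ζ‖) ^ (Nq + (Ni + Ng)) := by
          rw [pow_add (1 + ‖ζ‖) Nq]
          ring
  obtain ⟨K1, N1, hK1, hev⟩ := hgrow
  have hgrow' : ∃ K2 : ℝ, ∀ ζ, ‖G ζ‖ ≤ K2 * (1 + ‖ζ‖) ^ N1 := by
    obtain ⟨R, hR⟩ : ∃ R : ℝ, ∀ ζ : ℂ, R < ‖ζ‖ → ‖G ζ‖ ≤ K1 * (1 + ‖ζ‖) ^ N1 := by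
      have h1 : IsBounded {ζ : ℂ | ¬ ‖G ζ‖ ≤ K1 * (1 + ‖ζ‖) ^ N1} := by
        rw [← isCobounded_compl_iff]
        have h3 : {ζ : ℂ | ¬ ‖G ζ‖ ≤ K1 * (1 + ‖ζ‖) ^ N1}ᶜ = {ζ : ℂ | ‖G ζ‖ ≤ K1 * (1 + ‖ζ‖) ^ N1} := by
          ext ζ
          simp
        rw [h3]
        exact hev
      obtain ⟨R, hR⟩ := h1.subset_closedBall 0
      refine ⟨R, fun ζ hζ => ?_⟩
      by_contra hcon
      have h2 := hR hcon
      rw [mem_closedBall_zero_iff] at h2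
      linarith
    obtain ⟨B, hB⟩ := (isCompact_closedBall (0 : ℂ) R).exists_bound_of_continuousOn
      (f := G) hG.continuous.continuousOn
    refine ⟨K1 + |B|, fun ζ => ?_⟩
    have h1 : (1 : ℝ) ≤ (1 + ‖ζ‖) ^ N1 := one_le_pow₀ (by linarith [norm_nonneg ζ])
    by_cases hζ : R < ‖ζ‖
    · refine (hR ζ hζ).trans ?_
      gcongr
      linarith [abs_nonneg B]
    · have h2 : ‖G ζ‖ ≤ B := hB ζ (by rw [mem_closedBall_zero_iff]; exact not_lt.1 hζ)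
      calc ‖G ζ‖ ≤ |B| := h2.trans (le_abs_self _)
        _ ≤ (K1 + |B|) * 1 := by linarith
        _ ≤ (K1 + |B|) * (1 + ‖ζ‖) ^ N1 := by
            have : 0 ≤ K1 + |B| := by positivity
            gcongr
  obtain ⟨K2, hK2⟩ := hgrow'
  obtain ⟨p, _, hp⟩ := OneVar.exists_polynomial_of_growth hG K2 N1 hK2
  refine ⟨p, q, hq0, fun ζ hζ1 hζ2 => ?_⟩
  have hζS : ζ ∉ S := by
    rw [hmemS, Bad, Set.mem_ofPred_eq, not_not]
    exact ⟨hζ1, hζ2⟩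
  rw [← hp ζ, hGe ζ hζS]

end Groth.Agent.Gaga.H475.Rational
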