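import Groth.Agent.An.H869.OneVar
import Mathlib.Analysis.Analytic.IsolatedZeros
import Mathlib.Analysis.Meromorphic.Basic
import Mathlib.Analysis.Complex.CauchyIntegral

/-!
# Finite branched families of points over the complex line

`r : ℂ → Finset ℂ` a family of finite sets, holomorphic near `ζ0` in the sense of `IsCov`.  Functions
`f : ℂ × ℂ → ℂ` are considered on `{(ζ, t) | t ∈ r ζ}`.
-/

set_option autoImplicit false

namespace Groth.Agent.Gaga.H475.Sheets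

open Filter Topology

variable {r : ℂ → Finset ℂ} {ζ0 t0 : ℂ} {f g : ℂ × ℂ → ℂ}

/-- Near `ζ0` the family `r` is given by disjoint holomorphic branches. -/
def IsCov (r : ℂ → Finset ℂ) (ζ0 : ℂ) : Prop :=
  ∃ τ : ℂ → ℂ → ℂ, (∀ t ∈ r ζ0, τ t ζ0 = t ∧ ∀ᶠ ζ in 𝓝 ζ0, DifferentiableAt ℂ (τ t) ζ) ∧
    ∀ᶠ ζ in 𝓝 ζ0, Set.InjOn (fun t => τ t ζ) (r ζ0 : Set ℂ) ∧
      r ζ = (r ζ0).image (fun t => τ t ζ)

/-- `f` is, near `q0` and on the family, the restriction of a holomorphic function of two variables. -/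
def HolAt (r : ℂ → Finset ℂ) (f : ℂ × ℂ → ℂ) (q0 : ℂ × ℂ) : Prop :=
  ∃ g : ℂ × ℂ → ℂ, (∀ᶠ q in 𝓝 q0, DifferentiableAt ℂ g q) ∧ ∀ᶠ q in 𝓝 q0, q.2 ∈ r q.1 → f q = g q

/-- `f` vanishes on the family near `q0`. -/
def LocZero (r : ℂ → Finset ℂ) (f : ℂ × ℂ → ℂ) (q0 : ℂ × ℂ) : Prop :=
  ∀ᶠ q in 𝓝 q0, q.2 ∈ r q.1 → f q = 0

lemma HolAt.eventually {q0 : ℂ × ℂ} (h : HolAt r f q0) : ∀ᶠ q in 𝓝 q0, HolAt r f q := by
  obtain ⟨g, h1, h2⟩ := h
  filter_upwards [h1.eventually_nhds, h2.eventually_nhds] with q hq1 hq2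
  exact ⟨g, hq1, hq2⟩

lemma HolAt.mul {q0 : ℂ × ℂ} (hf : HolAt r f q0) (hg : HolAt r g q0) :
    HolAt r (fun q => f q * g q) q0 := by
  obtain ⟨F, h1, h2⟩ := hf
  obtain ⟨G, h3, h4⟩ := hg
  refine ⟨fun q => F q * G q, ?_, ?_⟩
  · filter_upwards [h1, h3] with q hq hq'
    exact hq.mul hq'
  · filter_upwards [h2, h4] with q hq hq' hqr
    rw [hq hqr, hq' hqr]

/-- The branch through a point. -/
lemma IsCov.exists_branch (h : IsCov r ζ0) (ht : t0 ∈ r ζ0) :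
    ∃ τ : ℂ → ℂ, τ ζ0 = t0 ∧ (∀ᶠ ζ in 𝓝 ζ0, DifferentiableAt ℂ τ ζ) ∧ (∀ᶠ ζ in 𝓝 ζ0, τ ζ ∈ r ζ) ∧
      ∀ᶠ q in 𝓝 (ζ0, t0), q.2 ∈ r q.1 → q.2 = τ q.1 := by
  classical
  obtain ⟨τ, hτ, hev⟩ := h
  refine ⟨τ t0, (hτ t0 ht).1, (hτ t0 ht).2, ?_, ?_⟩
  · filter_upwards [hev] with ζ hζ
    rw [hζ.2]
    exact Finset.mem_image_of_mem _ ht
  · have h1 : ∀ᶠ q : ℂ × ℂ in 𝓝 (ζ0, t0), ∀ t ∈ r ζ0, t ≠ t0 → q.2 ≠ τ t q.1 := by
      rw [Filter.eventually_all_finset]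
      intro t htr
      by_cases htt : t = t0
      · exact Filter.Eventually.of_forall fun _ h => absurd htt h
      · have hc : ContinuousAt (fun q : ℂ × ℂ => q.2 - τ t q.1) (ζ0, t0) := by
          refine continuousAt_snd.sub ?_
          have h2 : ContinuousAt (τ t) ζ0 := ((hτ t htr).2.self_of_nhds).continuousAt
          exact ContinuousAt.comp (f := Prod.fst) (x := (ζ0, t0)) h2 continuousAt_fst
        have hne : (fun q : ℂ × ℂ => q.2 - τ t q.1) (ζ0, t0) ≠ 0 := by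
          simp only
          rw [(hτ t htr).1]
          exact sub_ne_zero.2 (Ne.symm htt)
        filter_upwards [hc.eventually_ne hne] with q hq _
        exact sub_ne_zero.1 hq
    have h2 : ∀ᶠ q : ℂ × ℂ in 𝓝 (ζ0, t0), r q.1 = (r ζ0).image (fun t => τ t q.1) := by
      have : Tendsto (Prod.fst : ℂ × ℂ → ℂ) (𝓝 (ζ0, t0)) (𝓝 ζ0) := continuousAt_fst
      exact this.eventually (hev.mono fun _ h => h.2)
    filter_upwards [h1, h2] with q hq1 hq2 hqr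
    rw [hq2] at hqr
    obtain ⟨t, htr, hte⟩ := Finset.mem_image.1 hqr
    by_cases htt : t = t0
    · rw [← hte, htt]
    · exact absurd hte.symm (hq1 t htr htt)

/-- Restriction of a holomorphic function to a branch. -/
lemma HolAt.comp_branch {τ : ℂ → ℂ} (hτ0 : τ ζ0 = t0)
    (hτ : ∀ᶠ ζ in 𝓝 ζ0, DifferentiableAt ℂ τ ζ) (hτr : ∀ᶠ ζ in 𝓝 ζ0, τ ζ ∈ r ζ)
    (hf : HolAt r f (ζ0, t0)) : ∀ᶠ ζ in 𝓝 ζ0, DifferentiableAt ℂ (fun ζ => f (ζ, τ ζ)) ζ := by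
  obtain ⟨g, h1, h2⟩ := hf
  have hc : Tendsto (fun ζ => (ζ, τ ζ)) (𝓝 ζ0) (𝓝 (ζ0, t0)) := by
    have h3 : ContinuousAt τ ζ0 := hτ.self_of_nhds.continuousAt
    have h4 : ContinuousAt (fun ζ => (ζ, τ ζ)) ζ0 := continuousAt_id.prodMk h3
    have h5 := h4.tendsto
    simp only [hτ0] at h5
    exact h5
  have h6 : ∀ᶠ ζ in 𝓝 ζ0, f (ζ, τ ζ) = g (ζ, τ ζ) := by
    filter_upwards [hc.eventually h2, hτr] with ζ hζ hζ'
    exact hζ hζ'
  filter_upwards [h6.eventually_nhds, hc.eventually h1, hτ] with ζ h7 h8 h9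
  refine DifferentiableAt.congr_of_eventuallyEq ?_ h7
  exact DifferentiableAt.comp (f := fun ζ => (ζ, τ ζ)) ζ h8 (differentiableAt_id.prodMk h9)

lemma tendsto_branch {τ : ℂ → ℂ} (hτ0 : τ ζ0 = t0)
    (hτ : ∀ᶠ ζ in 𝓝 ζ0, DifferentiableAt ℂ τ ζ) :
    Tendsto (fun ζ => (ζ, τ ζ)) (𝓝 ζ0) (𝓝 (ζ0, t0)) := by
  have h3 : ContinuousAt τ ζ0 := hτ.self_of_nhds.continuousAt
  have h4 : ContinuousAt (fun ζ => (ζ, τ ζ)) ζ0 := continuousAt_id.prodMk h3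
  have h5 := h4.tendsto
  simp only [hτ0] at h5
  exact h5

/-- Sums over the family are holomorphic. -/
lemma differentiableAt_sum (h : IsCov r ζ0) (hf : ∀ t ∈ r ζ0, HolAt r f (ζ0, t)) :
    DifferentiableAt ℂ (fun ζ => ∑ t ∈ r ζ, f (ζ, t)) ζ0 := by
  classical
  obtain ⟨τ, hτ, hev⟩ := h
  have hd : DifferentiableAt ℂ (fun ζ => ∑ t ∈ r ζ0, f (ζ, τ t ζ)) ζ0 := by
    refine DifferentiableAt.fun_sum (fun t ht => ?_)
    refine (HolAt.comp_branch (hτ t ht).1 (hτ t ht).2 ?_ (hf t ht)).self_of_nhds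
    filter_upwards [hev] with ζ hζ
    rw [hζ.2]
    exact Finset.mem_image_of_mem _ ht
  refine hd.congr_of_eventuallyEq ?_
  filter_upwards [hev] with ζ hζ
  rw [hζ.2, Finset.sum_image hζ.1]

/-- Products over the family are holomorphic. -/
lemma differentiableAt_prod (h : IsCov r ζ0) (hf : ∀ t ∈ r ζ0, HolAt r f (ζ0, t)) :
    DifferentiableAt ℂ (fun ζ => ∏ t ∈ r ζ, f (ζ, t)) ζ0 := by
  classical
  obtain ⟨τ, hτ, hev⟩ := h
  have hd : DifferentiableAt ℂ (fun ζ => ∏ t ∈ r ζ0, f (ζ, τ t ζ)) ζ0 := by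
    refine DifferentiableAt.fun_finsetProd (fun t ht => ?_)
    refine (HolAt.comp_branch (hτ t ht).1 (hτ t ht).2 ?_ (hf t ht)).self_of_nhds
    filter_upwards [hev] with ζ hζ
    rw [hζ.2]
    exact Finset.mem_image_of_mem _ ht
  refine hd.congr_of_eventuallyEq ?_
  filter_upwards [hev] with ζ hζ
  rw [hζ.2, Finset.prod_image hζ.1]

/-- A function vanishing on a branch near `ζ0` is locally zero on the family. -/
lemma locZero_of_branch {τ : ℂ → ℂ}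
    (hτu : ∀ᶠ q in 𝓝 (ζ0, t0), q.2 ∈ r q.1 → q.2 = τ q.1)
    (hf : ∀ᶠ ζ in 𝓝 ζ0, f (ζ, τ ζ) = 0) : LocZero r f (ζ0, t0) := by
  have h1 : Tendsto (Prod.fst : ℂ × ℂ → ℂ) (𝓝 (ζ0, t0)) (𝓝 ζ0) := continuousAt_fst
  filter_upwards [hτu, h1.eventually hf] with q hq1 hq2 hqr
  have : q = (q.1, τ q.1) := Prod.ext rfl (hq1 hqr)
  rw [this]
  exact hq2

/-- A vanishing product has a locally vanishing factor. -/
lemma exists_locZero_of_prod (h : IsCov r ζ0) (hf : ∀ t ∈ r ζ0, HolAt r f (ζ0, t))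
    (hz : ∀ᶠ ζ in 𝓝 ζ0, ∏ t ∈ r ζ, f (ζ, t) = 0) : ∃ t ∈ r ζ0, LocZero r f (ζ0, t) := by
  classical
  by_contra hcon
  push Not at hcon
  have h' := h
  obtain ⟨τ, hτ, hev⟩ := h
  have hτr : ∀ t ∈ r ζ0, ∀ᶠ ζ in 𝓝 ζ0, τ t ζ ∈ r ζ := by
    intro t ht
    filter_upwards [hev] with ζ hζ
    rw [hζ.2]
    exact Finset.mem_image_of_mem _ ht
  have hne : ∀ t ∈ r ζ0, ∀ᶠ ζ in 𝓝[≠] ζ0, f (ζ, τ t ζ) ≠ 0 := by
    intro t ht
    have h1 := HolAt.comp_branch (hτ t ht).1 (hτ t ht).2 (hτr t ht) (hf t ht)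
    have h2 : AnalyticAt ℂ (fun ζ => f (ζ, τ t ζ)) ζ0 := by
      rw [Complex.analyticAt_iff_eventually_differentiableAt]
      exact h1
    rcases h2.eventually_eq_zero_or_eventually_ne_zero with h3 | h3
    · exfalso
      refine hcon t ht ?_
      obtain ⟨τ', hτ'0, hτ'd, hτ'r, hτ'u⟩ := h'.exists_branch ht
      refine locZero_of_branch hτ'u ?_
      -- both branches agree near `ζ0`
      have h4 := (tendsto_branch (hτ t ht).1 (hτ t ht).2).eventually hτ'u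
      filter_upwards [h3, h4, hτr t ht] with ζ h5 h6 h7
      rw [← h6 h7]
      exact h5
    · exact h3
  have hall : ∀ᶠ ζ in 𝓝[≠] ζ0, ∀ t ∈ r ζ0, f (ζ, τ t ζ) ≠ 0 := by
    rw [Filter.eventually_all_finset]
    exact hne
  have h5 : ∀ᶠ ζ in 𝓝[≠] ζ0, False := by
    filter_upwards [hall, hz.filter_mono nhdsWithin_le_nhds, hev.filter_mono nhdsWithin_le_nhds] with
      ζ h6 h7 h8
    rw [h8.2, Finset.prod_image h8.1, Finset.prod_eq_zero_iff] at h7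
    obtain ⟨t, ht, h9⟩ := h7
    exact h6 t ht h9
  exact h5.exists.choose_spec

end Groth.Agent.Gaga.H475.Sheets
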